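import Mathlib
import Cfsg.Agent.S0519
import Cfsg.Agent.S0016
import Cfsg.Agent.Lib.Helper3.NormalSeries

/-!
A finite `p`-group which is not cyclic, generalized quaternion, dihedral or quasi-dihedral has a
normal subgroup of order `p ^ 2` and exponent `p`.
-/

set_option autoImplicit false

namespace Cfsg.Agent.Lib.Helper71

/-- elements of order dividing `p` in a commutative subgroup -/
def omg {G : Type*} [Group G] (p : ℕ) (A : Subgroup G) (hA : ∀ x ∈ A, ∀ y ∈ A, x * y = y * x) :
    Subgroup G where
  carrier := {x | x ∈ A ∧ x ^ p = 1}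
  one_mem' := ⟨A.one_mem, one_pow p⟩
  mul_mem' := by
    rintro x y ⟨hx, hx1⟩ ⟨hy, hy1⟩
    refine ⟨A.mul_mem hx hy, ?_⟩
    rw [(show Commute x y from hA x hx y hy).mul_pow, hx1, hy1, one_mul]
  inv_mem' := by
    rintro x ⟨hx, hx1⟩
    exact ⟨A.inv_mem hx, by rw [inv_pow, hx1, inv_one]⟩

theorem isCyclic_of_comm_quaternion {A : Type*} [Group A] (hc : ∀ x y : A, x * y = y * x) (n : ℕ)
    (e : A ≃* QuaternionGroup (2 ^ n)) : IsCyclic A := by
  cases n with
  | zero =>
    have : IsCyclic (QuaternionGroup (2 ^ 0)) := QuaternionGroup.quaternionGroup_one_isCyclic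
    exact isCyclic_of_surjective e.symm e.symm.surjective
  | succ n =>
    exfalso
    have h1 := hc (e.symm (QuaternionGroup.a 1)) (e.symm (QuaternionGroup.xa 0))
    rw [← map_mul, ← map_mul] at h1
    have h2 := e.symm.injective h1
    rw [QuaternionGroup.a_mul_xa, QuaternionGroup.xa_mul_a] at h2
    have h3 : (0 - 1 : ZMod (2 * 2 ^ (n + 1))) = 0 + 1 := by
      injection h2
    have h4 : ((2 : ℕ) : ZMod (2 * 2 ^ (n + 1))) = 0 := by
      push_cast
      linear_combination -h3
    rw [ZMod.natCast_eq_zero_iff] at h4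
    have h5 := Nat.le_of_dvd (by norm_num) h4
    have h6 : 2 ≤ 2 ^ (n + 1) := by
      calc 2 = 2 ^ 1 := by norm_num
        _ ≤ 2 ^ (n + 1) := Nat.pow_le_pow_right (by norm_num) (by omega)
    omega

/-- two distinct subgroups of order `p` in a commutative subgroup -/
theorem sq_dvd_card_omg {G : Type*} [Group G] [Finite G] {p : ℕ} [hp : Fact p.Prime]
    (hG : IsPGroup p G) (A : Subgroup G) (hA : ∀ x ∈ A, ∀ y ∈ A, x * y = y * x)
    (H K : Subgroup G) (hH : H ≤ A) (hK : K ≤ A) (hHc : Nat.card H = p) (hKc : Nat.card K = p)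
    (hne : H ≠ K) : p ^ 2 ∣ Nat.card (omg p A hA) := by
  have hle : ∀ L : Subgroup G, L ≤ A → Nat.card L = p → L ≤ omg p A hA := by
    intro L hL hLc x hx
    refine ⟨hL hx, ?_⟩
    have h1 : (⟨x, hx⟩ : L) ^ p = 1 := by rw [← hLc]; exact pow_card_eq_one'
    exact congrArg Subtype.val h1
  obtain ⟨m, hm⟩ := IsPGroup.iff_card.mp (hG.to_subgroup (omg p A hA))
  rw [hm]
  apply pow_dvd_pow
  by_contra hcon
  have hm1 : Nat.card (omg p A hA) ≤ p := by
    rw [hm]
    calc p ^ m ≤ p ^ 1 := Nat.pow_le_pow_right hp.out.pos (by omega)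
      _ = p := pow_one p
  have e1 : H = omg p A hA := Subgroup.eq_of_le_of_card_ge (hle H hH hHc) (by rw [hHc]; exact hm1)
  have e2 : K = omg p A hA := Subgroup.eq_of_le_of_card_ge (hle K hK hKc) (by rw [hKc]; exact hm1)
  exact hne (e1.trans e2.symm)

theorem not_isCyclic_of_sq_dvd_omg {G : Type*} [Group G] [Finite G] {p : ℕ} [hp : Fact p.Prime]
    (A : Subgroup G) (hA : ∀ x ∈ A, ∀ y ∈ A, x * y = y * x)
    (h : p ^ 2 ∣ Nat.card (omg p A hA)) : ¬ IsCyclic A := by
  intro hcyc
  have hle : omg p A hA ≤ A := fun x hx => hx.1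
  have h1 : IsCyclic (omg p A hA) := Subgroup.isCyclic_of_le hle
  have h2 := IsCyclic.exponent_eq_card (α := omg p A hA)
  have h3 : Monoid.exponent (omg p A hA) ∣ p := by
    apply Monoid.exponent_dvd_of_forall_pow_eq_one
    rintro ⟨x, hx⟩
    exact Subtype.ext hx.2
  rw [h2] at h3
  have h4 := Nat.le_of_dvd hp.out.pos (h.trans h3)
  have := hp.out.one_lt
  nlinarith

theorem exists_normal_sq_exp {G : Type*} [Group G] [Finite G] (p : ℕ) [hp : Fact p.Prime]
    (hG : IsPGroup p G) (hnc : ¬ IsCyclic G) (hnq : ∀ n : ℕ, ¬ Nonempty (G ≃* QuaternionGroup n))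
    (hnd : ∀ n : ℕ, ¬ Nonempty (G ≃* DihedralGroup n)) (hnsd : ¬ Cfsg.IsQuasiDihedral G) :
    ∃ E : Subgroup G, E.Normal ∧ Nat.card E = p ^ 2 ∧ (∀ x ∈ E, x ^ p = 1) ∧
      ∀ x ∈ E, ∀ y ∈ E, x * y = y * x := by
  -- a noncyclic commutative normal subgroup
  obtain ⟨A, hAn, hAc, hAnc⟩ : ∃ A : Subgroup G, A.Normal ∧ IsMulCommutative A ∧ ¬ IsCyclic A := by
    by_contra hcon
    push Not at hcon
    by_cases h2 : ∃ B : Subgroup G, IsMulCommutative B ∧ ¬ IsCyclic B
    · obtain ⟨-, h | h | h⟩ := Cfsg.Agent.S0519.result p hG hcon h2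
      · obtain ⟨n, hn⟩ := h
        exact hnq n hn
      · obtain ⟨n, -, hn⟩ := h
        exact hnd n hn
      · exact hnsd h
    · push Not at h2
      have huniq : ∀ H K : Subgroup G, Nat.card H = p → Nat.card K = p → H = K := by
        have htop : (⊤ : Subgroup G) ≠ ⊥ := by
          intro h
          apply hnc
          have : Subsingleton G := by
            constructor
            intro a b
            have ha : a ∈ (⊤ : Subgroup G) := Subgroup.mem_top a
            have hb : b ∈ (⊤ : Subgroup G) := Subgroup.mem_top b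
            rw [h, Subgroup.mem_bot] at ha hb
            rw [ha, hb]
          infer_instance
        obtain ⟨z, -, hzc, hzo⟩ := Cfsg.Agent.Lib.Helper3.exists_central_order_p hG ⊤ htop
        have key : ∀ H : Subgroup G, Nat.card H = p → H = Subgroup.zpowers z := by
          intro H hH
          by_contra hne
          set B : Subgroup G := H ⊔ Subgroup.zpowers z with hB
          have hHcomm : ∀ x ∈ H, ∀ y ∈ H, x * y = y * x := by
            have : IsCyclic H := isCyclic_of_prime_card hH
            have := IsCyclic.isMulCommutative (α := H)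
            intro x hx y hy
            exact congrArg Subtype.val (mul_comm' (⟨x, hx⟩ : H) ⟨y, hy⟩)
          have hBcomm : ∀ x ∈ B, ∀ y ∈ B, x * y = y * x := by
            have hZc : Subgroup.zpowers z ≤ Subgroup.center G := by
              rw [Subgroup.zpowers_le]; exact hzc
            have h1 : B ≤ Subgroup.centralizer (H : Set G) := by
              refine sup_le ?_ ?_
              · intro x hx
                rw [Subgroup.mem_centralizer_iff]
                intro y hy
                exact hHcomm y hy x hx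
              · exact hZc.trans (Subgroup.center_le_centralizer _)
            have h2 : B ≤ Subgroup.centralizer (B : Set G) := by
              rw [Subgroup.le_centralizer_iff]
              refine sup_le ?_ ?_
              · rw [Subgroup.le_centralizer_iff]; exact h1
              · exact hZc.trans (Subgroup.center_le_centralizer _)
            intro x hx y hy
            exact (Subgroup.mem_centralizer_iff.mp (h2 hy) x hx)
          have hBm : IsMulCommutative B :=
            ⟨⟨fun x y => Subtype.ext (hBcomm x x.2 y y.2)⟩⟩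
          have hBcyc := h2 B hBm
          exact not_isCyclic_of_sq_dvd_omg B hBcomm
            (sq_dvd_card_omg hG B hBcomm H (Subgroup.zpowers z) le_sup_left le_sup_right hH
              (by rw [Nat.card_zpowers, hzo]) hne) hBcyc
        intro H K hH hK
        rw [key H hH, key K hK]
      rcases Cfsg.Agent.S0016.result p hG huniq with h | ⟨-, n, hn⟩
      · exact hnc h
      · exact hnq _ hn
  have hAcomm : ∀ x ∈ A, ∀ y ∈ A, x * y = y * x := by
    intro x hx y hy
    exact congrArg Subtype.val (mul_comm' (⟨x, hx⟩ : A) ⟨y, hy⟩)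
  -- two subgroups of order `p` in `A`
  have hsq : p ^ 2 ∣ Nat.card (omg p A hAcomm) := by
    by_contra hcon
    have huniq : ∀ H K : Subgroup A, Nat.card H = p → Nat.card K = p → H = K := by
      intro H K hH hK
      by_contra hne
      apply hcon
      refine sq_dvd_card_omg hG A hAcomm (H.map A.subtype) (K.map A.subtype)
        (Subgroup.map_subtype_le _) (Subgroup.map_subtype_le _)
        (by rw [Subgroup.card_map_of_injective A.subtype_injective, hH])
        (by rw [Subgroup.card_map_of_injective A.subtype_injective, hK]) ?_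
      intro h
      exact hne (Subgroup.map_injective A.subtype_injective h)
    rcases Cfsg.Agent.S0016.result p (hG.to_subgroup A) huniq with h | ⟨-, n, ⟨e⟩⟩
    · exact hAnc h
    · exact hAnc (isCyclic_of_comm_quaternion (fun x y => mul_comm' x y) n e)
  have hΩn : (omg p A hAcomm).Normal := by
    constructor
    rintro x ⟨hx, hx1⟩ g
    exact ⟨hAn.conj_mem x hx g, by rw [conj_pow, hx1, mul_one, mul_inv_cancel]⟩
  obtain ⟨E, hE, hEn, hEc⟩ :=
    Cfsg.Agent.Lib.Helper3.exists_normal_le_card_eq 2 G hG (omg p A hAcomm) hΩn hsq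
  exact ⟨E, hEn, hEc, fun x hx => (hE hx).2,
    fun x hx y hy => hAcomm x (hE hx).1 y (hE hy).1⟩

end Cfsg.Agent.Lib.Helper71
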