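import Cfsg.Agent.Lib.Helper71.SAClaimA

/-!
SA ladder (helper53), rung B2.
-/

set_option autoImplicit false

namespace Cfsg.Agent.Lib.Helper71.SA

open Cfsg Subgroup
open Cfsg.Agent.Lib.Helper53.SA
open Cfsg.Agent.Lib.Helper53.JC (cjj QQ)

variable {G : Type*} [Group G]

theorem b2 (hc : CritSt G) (hs : ShiftSt G) (ha : ClaimASt G) : B2St G := by
  intro Pc Qc Zc Adj hg δ hmin hcr
  have hadj0 : Adj (δ 0) (δ 1) := hcr.1 0 (by omega)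
  have hadj1 : Adj (δ 1) (δ 2) := hcr.1 1 (by omega)
  obtain ⟨hrev, -, h2, r, hr⟩ := hc Pc Qc Zc Adj hg 2 δ (by omega) hmin hcr
  obtain ⟨hPbe, -⟩ := ha Pc Qc Zc Adj hg 2 δ le_rfl hmin hcr r hr
  have hrev2 := hrev.2
  rw [rev_zero, rev_self] at hrev2
  obtain ⟨t, ht, htQ⟩ := SetLike.not_le_iff_exists.mp hrev2
  have htT := h2 ht
  have htt : t * t = 1 := hg.Zexp _ _ ht
  have tinv : t⁻¹ = t := inv_eq_self_of_sq htt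
  obtain ⟨l, hl, hne⟩ := exists_other_nbr hg hadj0
  have htl : t ∉ Pc l := by
    intro htl
    exact htQ (hg.inter _ _ _ hadj0 hl (Ne.symm hne) ⟨htT, htl⟩)
  have hw1 := hs Pc Qc Zc Adj hg 2 δ le_rfl hmin hcr l hl hne
  obtain ⟨m, hm, hnem⟩ := exists_other_nbr hg (hg.symm _ _ hl)
  have hw2 := hs Pc Qc Zc Adj hg 2 (cons l δ) le_rfl hmin hw1 m hm hnem
  obtain ⟨hw2r, -⟩ := hc Pc Qc Zc Adj hg 2 (cons m (cons l δ)) (by omega) hmin hw2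
  have e0 : rev 2 (cons m (cons l δ)) 0 = δ 0 := rfl
  have e1 : rev 2 (cons m (cons l δ)) 1 = l := rfl
  have hn : Adj (δ 0) (t * l) := hg.act _ _ hl t htT.1
  have hnen : Pc (δ 0) ⊓ Pc (t * l) ≠ Pc (δ 0) ⊓ Pc l := hg.move _ _ hl t htT.1 htl
  have hw3 := hs Pc Qc Zc Adj hg 2 (rev 2 (cons m (cons l δ))) le_rfl hmin hw2r (t * l) hn hnen
  obtain ⟨hw3r, -, -, r3, hr3⟩ := hc Pc Qc Zc Adj hg 2
    (cons (t * l) (rev 2 (cons m (cons l δ)))) (by omega) hmin hw3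
  obtain ⟨hPal, -⟩ := ha Pc Qc Zc Adj hg 2
    (cons (t * l) (rev 2 (cons m (cons l δ)))) le_rfl hmin hw3 r3 hr3
  have hPal' : Pc (δ 0) ≤ centralizer {r3} := hPal
  have hw3r2 : ¬ Zc l ≤ Qc (t * l) := hw3r.2
  obtain ⟨q, hq, hqQ⟩ := SetLike.not_le_iff_exists.mp hw3r2
  have hqq : q * q = 1 := hg.Zexp _ _ hq
  have qinv : q⁻¹ = q := inv_eq_self_of_sq hqq
  have hq' : t * q * t⁻¹ ∈ Zc (t * l) := by
    rw [hg.Zmul]
    exact ⟨q, hq, rfl⟩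
  have hq'Q : t * q * t⁻¹ ∉ Qc l := by
    intro h
    apply hqQ
    rw [hg.Qmul]
    refine ⟨t * q * t⁻¹, h, ?_⟩
    show t * (t * q * t⁻¹) * t⁻¹ = q
    calc t * (t * q * t⁻¹) * t⁻¹ = (t * t) * q * (t * t)⁻¹ := by group
      _ = q := by rw [htt]; group
  have hst : (t * q * t⁻¹) * q * (t * q * t⁻¹)⁻¹ * q⁻¹ = r3 := hr3.st _ hq' hq'Q q hq hqQ
  have hr3l : r3 ∈ Zc l := hr3.memb
  have hqr3 : q * r3 = r3 * q := geo_commQZ hg (hg.ZQ _ hq) hr3l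
  have hkey : (q * t * q⁻¹) * t * (q * t * q⁻¹)⁻¹ * t⁻¹ = r3 := by
    have h3 : (q * t * q⁻¹) * t * (q * t * q⁻¹)⁻¹ * t⁻¹ =
        q * ((t * q * t⁻¹) * q * (t * q * t⁻¹)⁻¹ * q⁻¹) * q⁻¹ := by
      simp only [mul_inv_rev, tinv, qinv, mul_assoc, hqq, mul_one]
    rw [h3, hst, hqr3]
    group
  have htbe : t ∈ Qc (δ 1) :=
    hmin 1 (by omega) (rev 2 δ) (isWalk_mono hrev.1 (by omega)) ht
  have hq0 : q ∈ Qc (δ 0) :=
    hmin 1 (by omega) (cons l δ) (isWalk_mono hw1.1 (by omega)) hq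
  have haQ : q * t * q⁻¹ ∈ Qc (δ 1) := geo_conjQ hg (hg.QT _ _ hadj0 hq0) htbe
  have hcb := hr.cb t ht (q * t * q⁻¹) ⟨hg.QP _ haQ, hg.QT _ _ hadj1 haQ⟩
  rw [hkey] at hcb
  have hr3r : r3 = r := hcb.resolve_left hr3.ne
  rw [hr3r] at hPal'
  have hrQ : r ∈ Qc (δ 0) := hg.ZQ _ hr.mem0
  exact hr.ne (hg.noZ _ _ hadj0 r (hg.QP _ hrQ) (hg.QT _ _ hadj0 hrQ) hPal' hPbe)

end Cfsg.Agent.Lib.Helper71.SA
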