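import Cfsg.Agent.Lib.Helper71.SAClaimA

/-!
SA ladder (helper53), rung B3.
-/

set_option autoImplicit false

namespace Cfsg.Agent.Lib.Helper71.SA

open Cfsg Subgroup
open Cfsg.Agent.Lib.Helper53.SA
open Cfsg.Agent.Lib.Helper53.JC (cjj QQ)

variable {G : Type*} [Group G]

theorem b3 (hc : CritSt G) (hs : ShiftSt G) (ha : ClaimASt G) : B3St G := by
  intro Pc Qc Zc Adj hg b δ hmin hcr
  by_contra hb
  obtain ⟨k, rfl⟩ : ∃ k, b = k + 3 := ⟨b - 3, by omega⟩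
  have hadj0 : Adj (δ 0) (δ 1) := hcr.1 0 (by omega)
  obtain ⟨hrev, -, h2, -⟩ := hc Pc Qc Zc Adj hg (k + 3) δ (by omega) hmin hcr
  obtain ⟨l, hl, hne⟩ := exists_other_nbr hg hadj0
  have hw1 := hs Pc Qc Zc Adj hg (k + 3) δ (by omega) hmin hcr l hl hne
  obtain ⟨m, hm, hnem⟩ := exists_other_nbr hg (hg.symm _ _ hl)
  have hw2 := hs Pc Qc Zc Adj hg (k + 3) (cons l δ) (by omega) hmin hw1 m hm hnem
  obtain ⟨-, -, -, r2, hr2⟩ := hc Pc Qc Zc Adj hg (k + 3) (cons m (cons l δ)) (by omega) hmin hw2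
  obtain ⟨hPl, hPk⟩ := ha Pc Qc Zc Adj hg (k + 3) (cons m (cons l δ)) (by omega) hmin hw2 r2 hr2
  have hPl' : Pc l ≤ centralizer {r2} := hPl
  have hPk' : Pc (δ k) ≤ centralizer {r2} := hPk
  have hrev2 := hrev.2
  rw [rev_zero, rev_self] at hrev2
  obtain ⟨t, ht, htQ⟩ := SetLike.not_le_iff_exists.mp hrev2
  have htT := h2 ht
  have htl : t ∉ Pc l := by
    intro htl
    exact htQ (hg.inter _ _ _ hadj0 hl (Ne.symm hne) ⟨htT, htl⟩)
  have htk : t ∈ Pc (δ k) := by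
    rcases Nat.eq_zero_or_pos k with rfl | hk
    · exact htT.1
    · have h3 := hmin 3 (by omega) (rev (k + 3) δ) (isWalk_mono hrev.1 (by omega))
      rw [rev_zero, rev_apply, Nat.add_sub_cancel] at h3
      exact hg.QP _ (h3 ht)
  have hPal : Pc (δ 0) ≤ centralizer {r2} :=
    hg.max _ _ hl t htT.1 htl _ (inf_le_right.trans hPl') (hPk' htk)
  have hr2l : r2 ∈ Qc l :=
    hmin 1 (by omega) (cons m (cons l δ)) (isWalk_mono hw2.1 (by omega)) hr2.mem0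
  exact hr2.ne (hg.noZ _ _ hl r2 (hg.QT _ _ (hg.symm _ _ hl) hr2l) (hg.QP _ hr2l) hPal hPl')

end Cfsg.Agent.Lib.Helper71.SA
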