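import Cfsg.Agent.Lib.Helper71.SACrit

/-!
SA ladder (helper53), rung SHIFT.
-/

set_option autoImplicit false

namespace Cfsg.Agent.Lib.Helper71.SA

open Cfsg Subgroup
open Cfsg.Agent.Lib.Helper53.SA
open Cfsg.Agent.Lib.Helper53.JC (cjj QQ)

variable {G : Type*} [Group G]

/-- an involution mapping `W` into itself by conjugation normalizes `W` -/
theorem mem_normalizer_of_invol {W : Subgroup G} {t : G} (ht : t * t = 1)
    (h : ∀ w ∈ W, t * w * t⁻¹ ∈ W) : t ∈ normalizer (W : Set G) := by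
  rw [mem_normalizer_iff]
  intro w
  refine ⟨h w, fun hw => ?_⟩
  have h1 := h _ hw
  have h2 : t * (t * w * t⁻¹) * t⁻¹ = (t * t) * w * (t * t)⁻¹ := by group
  rw [h2, ht] at h1
  simpa using h1

theorem shift (hc : CritSt G) : ShiftSt G := by
  intro Pc Qc Zc Adj hg b δ hb hmin hcr l hl hne
  obtain ⟨hrev, h1, h2, r, hr⟩ := hc Pc Qc Zc Adj hg b δ (by omega) hmin hcr
  obtain ⟨k, rfl⟩ : ∃ k, b = k + 1 := ⟨b - 1, by omega⟩
  have hw : IsWalk Adj (k + 1) (cons l δ) :=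
    isWalk_cons (hg.symm _ _ hl) (isWalk_mono hcr.1 (by omega))
  refine ⟨hw, ?_⟩
  rw [cons_zero, cons_succ]
  intro hZl
  have hrev2 := hrev.2
  rw [rev_zero, rev_self] at hrev2
  obtain ⟨t, ht, htQ⟩ := SetLike.not_le_iff_exists.mp hrev2
  have htT := h2 ht
  have htt : t * t = 1 := hg.Zexp _ _ ht
  have hadjb : Adj (δ k) (δ (k + 1)) := hcr.1 k (by omega)
  have hadj0 : Adj (δ 0) (δ 1) := hcr.1 0 (by omega)
  -- `t` normalizes `Z_al ⊔ Z_l`
  have htN : t ∈ normalizer ((Zc (δ 0) ⊔ Zc l : Subgroup G) : Set G) := by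
    apply mem_normalizer_of_invol htt
    have hle : Zc (δ 0) ⊔ Zc l ≤
        (Zc (δ 0) ⊔ Zc l).comap (MulAut.conj t).toMonoidHom := by
      apply sup_le
      · intro z hz
        rw [mem_comap]
        exact (le_sup_left : Zc (δ 0) ≤ Zc (δ 0) ⊔ Zc l) (geo_conjZ hg htT.1 hz)
      · intro a ha
        rw [mem_comap]
        show t * a * t⁻¹ ∈ _
        have ha' : a⁻¹ ∈ Pc (δ (k + 1 - 1)) ⊓ Pc (δ (k + 1)) :=
          ⟨hg.QP _ (hZl ((Zc l).inv_mem ha)), hg.QT _ _ hadjb (hZl ((Zc l).inv_mem ha))⟩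
        have h3 := hr.cb t ht a⁻¹ ha'
        have h4 : t * a * t⁻¹ = a * (a⁻¹ * t * a⁻¹⁻¹ * t⁻¹) := by group
        rw [h4]
        apply Subgroup.mul_mem _ ((le_sup_right : Zc l ≤ Zc (δ 0) ⊔ Zc l) ha)
        rcases h3 with h3 | h3
        · rw [h3]; exact Subgroup.one_mem _
        · rw [h3]; exact (le_sup_left : Zc (δ 0) ≤ Zc (δ 0) ⊔ Zc l) hr.mem0
    intro w hw
    exact hle hw
  have htl : t ∉ Pc l := by
    intro htl
    exact htQ (hg.inter _ _ _ hadj0 hl (Ne.symm hne) ⟨htT, htl⟩)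
  have hTle : Pc (δ 0) ⊓ Pc l ≤ normalizer ((Zc (δ 0) ⊔ Zc l : Subgroup G) : Set G) := by
    refine le_trans ?_ (normalizer_inf_normalizer_le_normalizer_sup (Zc (δ 0)) (Zc l))
    exact inf_le_inf (hg.Zn _) (hg.Zn _)
  exact hg.noN _ _ hl (hg.max _ _ hl t htT.1 htl _ hTle htN)

end Cfsg.Agent.Lib.Helper71.SA
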