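import Mathlib
import Cfsg.Agent.Lib.Helper32.Suz.Defs
import Cfsg.Agent.Lib.Helper54.ZassInv
import Cfsg.Agent.Lib.Helper69.Suz3Blk1

/-!
SUZ3 ladder (helper32), rung BLK2: `steiner`, `invol_mem`, `fix_mem`.
-/

set_option autoImplicit false
set_option linter.unusedSectionVars false

namespace Cfsg.Agent.Lib.Helper71.Suz3

open MulAction Cfsg.Agent.Lib.Helper32.Suz Cfsg.Agent.Lib.Helper69.Suz3
  Cfsg.Agent.Lib.Helper54.Zass

theorem blk2_card_modEq_fixed {α : Type*} [Finite α] (f : α → α) (p : ℕ) [Fact p.Prime]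
    (hf : ∀ a, f^[p] a = a) : Nat.card α ≡ Nat.card {a // f a = a} [MOD p] := by
  classical
  have := Fintype.ofFinite α
  let F : Function.End α := f
  have hF : F ^ p ^ 1 = 1 := by
    rw [pow_one]
    have h1 := hom_coe_pow (fun g : Function.End α ↦ (g : α → α)) rfl (fun g h ↦ rfl) F p
    funext a
    have h2 := congrFun h1 a
    exact h2.trans (hf a)
  have h := Equiv.Perm.card_fixedPoints_modEq (f := F) (n := 1) hF
  rw [Nat.card_eq_fintype_card, Nat.card_eq_fintype_card]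
  refine h.trans ?_
  have : Fintype.card (Function.fixedPoints F) = Fintype.card {a // f a = a} :=
    Fintype.card_congr (Equiv.subtypeEquivRight fun _ => Iff.rfl)
  rw [this]

variable {G Ω : Type*} [Group G] [Finite G] [MulAction G Ω] [Fintype Ω]
  {a b : Ω} {Q Z E : Subgroup G} {t : G} {q : ℕ}

theorem blk2_a_mem : a ∈ blk a b Z := Or.inl rfl

theorem blk2_b_mem : b ∈ blk a b Z := Or.inr ⟨1, Z.one_mem, one_smul _ _⟩

theorem blk2_odd_card (D : ZT a b Q Z E t q) : Odd (Fintype.card Ω) := by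
  obtain ⟨k, hk⟩ := D.Q2.exists_card_eq
  have hZQ : Z ≤ Q := fun z hz => ((D.Zmem z).mp hz).1
  have h1 : Nat.card Z ≤ Nat.card Q := Subgroup.card_le_of_le hZQ
  rw [D.Zcard] at h1
  have hq := D.hq
  rw [← D.Qcard, hk]
  cases k with
  | zero => rw [pow_zero] at hk; omega
  | succ k => exact ⟨2 ^ k, by ring⟩

theorem blk2_orderOf_two {s : G} (hs : s * s = 1) (hs1 : s ≠ 1) : orderOf s = 2 :=
  orderOf_eq_prime (by rw [pow_two, hs]) hs1

theorem blk2_invol_mem_Z (D : ZT a b Q Z E t q) {s : G} (hs : s * s = 1) (hs1 : s ≠ 1)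
    (hsa : s • a = a) : s ∈ Z := by
  obtain ⟨c0, hc0, hu⟩ := invol_fix_unique D.h3 (blk2_odd_card D) s (blk2_orderOf_two hs hs1)
  have hac : a = c0 := hu a hsa
  subst hac
  rw [D.Zmem]
  exact ⟨mem_of_fixOnly D.h2 D.h3 D.hab Q D.Qle D.Qcard D.Qfix s hsa hu, hs⟩

theorem steiner (D : ZT a b Q Z E t q) {f : G} (hf : f ∈ Z) (hfix : t • (f • b) = f • b)
    (g : G) {c d : Ω} (hcd : c ≠ d) (hc : c ∈ blk a b Z) (hd : d ∈ blk a b Z)
    (hgc : g • c ∈ blk a b Z) (hgd : g • d ∈ blk a b Z) : g ∈ stabSet G (blk a b Z) := by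
  obtain ⟨u, hu, hua, hub⟩ := trans2 D hf hfix blk2_a_mem blk2_b_mem hc hd D.hab hcd
  have hne : g • c ≠ g • d := fun h => hcd (smul_left_cancel g h)
  obtain ⟨v, hv, hva, hvb⟩ := trans2 D hf hfix hgc hgd blk2_a_mem blk2_b_mem hne D.hab
  have hE : v * g * u ∈ E := by
    rw [D.hE, Subgroup.mem_inf, mem_stabilizer_iff, mem_stabilizer_iff]
    constructor
    · rw [mul_smul, mul_smul, hua, hva]
    · rw [mul_smul, mul_smul, hub, hvb]
  have h1 := E_le D hE
  have : g = v⁻¹ * (v * g * u) * u⁻¹ := by group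
  rw [this]
  exact Subgroup.mul_mem _ (Subgroup.mul_mem _ (Subgroup.inv_mem _ hv) h1) (Subgroup.inv_mem _ hu)

theorem blk2_exists_smul_a (D : ZT a b Q Z E t q) {f : G} (hf : f ∈ Z)
    (hfix : t • (f • b) = f • b) {c : Ω} (hc : c ∈ blk a b Z) :
    ∃ u ∈ stabSet G (blk a b Z), u • a = c := by
  by_cases hca : c = a
  · exact ⟨1, Subgroup.one_mem _, by rw [one_smul, hca]⟩
  · obtain ⟨u, hu, h1, _⟩ := trans2 D hf hfix blk2_a_mem blk2_b_mem hc blk2_a_mem D.hab hca
    exact ⟨u, hu, h1⟩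

theorem invol_mem (D : ZT a b Q Z E t q) {f : G} (hf : f ∈ Z) (hfix : t • (f • b) = f • b)
    {s : G} (hs : s * s = 1) {c : Ω} (hc : c ∈ blk a b Z) (hsc : s • c = c) :
    s ∈ stabSet G (blk a b Z) := by
  by_cases hs1 : s = 1
  · rw [hs1]; exact Subgroup.one_mem _
  obtain ⟨u, hu, hua⟩ := blk2_exists_smul_a D hf hfix hc
  have h1 : u⁻¹ * s * u ∈ Z := by
    apply blk2_invol_mem_Z D
    · calc u⁻¹ * s * u * (u⁻¹ * s * u) = u⁻¹ * (s * s) * u := by group
        _ = 1 := by rw [hs]; group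
    · intro h
      apply hs1
      calc s = u * (u⁻¹ * s * u) * u⁻¹ := by group
        _ = 1 := by rw [h]; group
    · rw [mul_smul, mul_smul, hua, hsc, ← hua, inv_smul_smul]
  have : s = u * (u⁻¹ * s * u) * u⁻¹ := by group
  rw [this]
  exact mul_mem (mul_mem hu (Z_le D h1)) (inv_mem hu)

/-- an element fixing two points has order dividing `q - 1` -/
theorem blk2_orderOf_dvd (D : ZT a b Q Z E t q) {x : G} {c c' : Ω} (hne : c ≠ c')
    (h1 : x • c = c) (h2 : x • c' = c') : orderOf x ∣ q - 1 := by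
  obtain ⟨g, hga, hgb⟩ := two_trans D.h2 hne D.hab
  have hE : g * x * g⁻¹ ∈ E := by
    rw [D.hE, Subgroup.mem_inf, mem_stabilizer_iff, mem_stabilizer_iff]
    constructor
    · rw [mul_smul, mul_smul, ← hga, inv_smul_smul, h1]
    · rw [mul_smul, mul_smul, ← hgb, inv_smul_smul, h2]
  have h3 : orderOf (g * x * g⁻¹) = orderOf x := by
    have := orderOf_injective (MulAut.conj g).toMonoidHom (MulAut.conj g).injective x
    simpa using this
  rw [← h3, ← D.Ecard]
  have := orderOf_dvd_natCard (⟨g * x * g⁻¹, hE⟩ : E)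
  rwa [Subgroup.orderOf_mk] at this

/-- an element of odd prime order with a fixed point has a second one -/
theorem blk2_exists_fix_two (D : ZT a b Q Z E t q) {x : G} {p : ℕ} (hp : p.Prime)
    (hxo : orderOf x = p) (hp2 : p ≠ 2) {c : Ω} (hc : x • c = c) :
    ∃ c', c ≠ c' ∧ x • c' = c' := by
  by_contra hcon
  push Not at hcon
  obtain ⟨d, hd⟩ : ∃ d : Ω, c ≠ d := by
    by_cases h : c = a
    · exact ⟨b, h ▸ D.hab⟩
    · exact ⟨a, h⟩
  obtain ⟨g, hga, -⟩ := two_trans D.h2 hd D.hab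
  have hQ : g * x * g⁻¹ ∈ Q := by
    apply mem_of_fixOnly D.h2 D.h3 D.hab Q D.Qle D.Qcard D.Qfix
    · rw [mul_smul, mul_smul, ← hga, inv_smul_smul, hc]
    · intro e he
      by_contra hea
      apply hcon (g⁻¹ • e)
      · intro h
        apply hea
        rw [← hga, h, smul_inv_smul]
      · rw [mul_smul, mul_smul] at he
        rw [eq_inv_smul_iff]
        exact he
  have h3 : orderOf (g * x * g⁻¹) = orderOf x := by
    have := orderOf_injective (MulAut.conj g).toMonoidHom (MulAut.conj g).injective x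
    simpa using this
  obtain ⟨k, hk⟩ := D.Q2 ⟨g * x * g⁻¹, hQ⟩
  have h4 : (g * x * g⁻¹) ^ 2 ^ k = 1 := by
    have := congrArg Subtype.val hk
    simpa using this
  have h5 := orderOf_dvd_of_pow_eq_one h4
  rw [h3, hxo] at h5
  exact hp2 ((Nat.prime_dvd_prime_iff_eq hp Nat.prime_two).mp (hp.dvd_of_dvd_pow h5))

theorem fix_mem (D : ZT a b Q Z E t q) {f : G} (hf : f ∈ Z) (hfix : t • (f • b) = f • b)
    {y : G} (hy : y ∈ stabSet G (blk a b Z)) (hy1 : y ≠ 1) {c : Ω} (hc : y • c = c) :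
    c ∈ blk a b Z := by
  by_contra hcΔ
  have hm1 : orderOf y ≠ 1 := fun h => hy1 (orderOf_eq_one_iff.mp h)
  obtain ⟨p, hp, hpm⟩ := Nat.exists_prime_and_dvd hm1
  have := Fact.mk hp
  set x := y ^ (orderOf y / p) with hxdef
  have hxo : orderOf x = p := orderOf_pow_orderOf_div (orderOf_pos y).ne' hpm
  have hxY : x ∈ stabSet G (blk a b Z) := Subgroup.pow_mem _ hy _
  have hxc : x • c = c := by
    have h1 : y ∈ stabilizer G c := hc
    exact Subgroup.pow_mem _ h1 _
  have hx1 : x ≠ 1 := by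
    intro h
    rw [h, orderOf_one] at hxo
    exact hp.one_lt.ne hxo
  have hfin : Finite (blk a b Z) := Subtype.finite
  let F : blk a b Z → blk a b Z := fun d => ⟨x • d.1, (hxY d.1).mpr d.2⟩
  have hFit : ∀ n : ℕ, ∀ d : blk a b Z, ((F^[n] d : blk a b Z) : Ω) = x ^ n • d.1 := by
    intro n
    induction n with
    | zero => intro d; simp
    | succ n ih =>
      intro d
      rw [Function.iterate_succ_apply', pow_succ', mul_smul, ← ih d]
  have hFp : ∀ d, F^[p] d = d := by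
    intro d
    apply Subtype.ext
    rw [hFit, ← hxo, pow_orderOf_eq_one, one_smul]
  have hmod := blk2_card_modEq_fixed F p hFp
  have hcardΔ : Nat.card (blk a b Z) = q + 1 := by
    rw [Nat.card_coe_set_eq]; exact ncard_blk D
  rw [hcardΔ] at hmod
  have hsub : Subsingleton {d : blk a b Z // F d = d} := by
    constructor
    rintro ⟨⟨d, hd⟩, hd'⟩ ⟨⟨e, he⟩, he'⟩
    have h1 : x • d = d := congrArg Subtype.val hd'
    have h2 : x • e = e := congrArg Subtype.val he'
    by_contra hne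
    have hde : d ≠ e := fun h => hne (by subst h; rfl)
    apply hx1
    exact D.h3 x d e c hde (fun h => hcΔ (h ▸ he)) (fun h => hcΔ (h ▸ hd)) h1 h2 hxc
  have hle : Nat.card {d : blk a b Z // F d = d} ≤ 1 := Finite.card_le_one_iff_subsingleton.mpr hsub
  have hq := D.hq
  obtain ⟨r, hr⟩ := D.hqe
  by_cases hp2 : p = 2
  · subst hp2
    have h1 : Nat.card {d : blk a b Z // F d = d} = 1 := by
      have : (q + 1) % 2 = Nat.card {d : blk a b Z // F d = d} % 2 := hmod
      omega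
    obtain ⟨⟨⟨d, hd⟩, hd'⟩, -⟩ := Nat.card_eq_one_iff_exists.mp h1
    have h2 : x • d = d := congrArg Subtype.val hd'
    obtain ⟨c0, -, hu⟩ := invol_fix_unique D.h3 (blk2_odd_card D) x hxo
    apply hcΔ
    rw [hu c hxc, ← hu d h2]
    exact hd
  · obtain ⟨c', hcc', hxc'⟩ := blk2_exists_fix_two D hp hxo hp2 hxc
    have hdvd := blk2_orderOf_dvd D hcc' hxc hxc'
    rw [hxo] at hdvd
    have hcases : Nat.card {d : blk a b Z // F d = d} = 0 ∨
        Nat.card {d : blk a b Z // F d = d} = 1 := by omega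
    rcases hcases with h0 | h0
    · rw [h0] at hmod
      have h1 : p ∣ q + 1 := (Nat.modEq_zero_iff_dvd).mp hmod
      have h2 : p ∣ 2 := by
        have := Nat.dvd_sub h1 hdvd
        have h3 : q + 1 - (q - 1) = 2 := by omega
        rwa [h3] at this
      exact hp2 ((Nat.prime_dvd_prime_iff_eq hp Nat.prime_two).mp h2)
    · rw [h0] at hmod
      have h1 : p ∣ q := by
        have := (Nat.modEq_iff_dvd' (by omega)).mp hmod.symm
        simpa using this
      have h2 : p ∣ 1 := by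
        have := Nat.dvd_sub h1 hdvd
        have h3 : q - (q - 1) = 1 := by omega
        rwa [h3] at this
      exact hp.one_lt.ne' (Nat.dvd_one.mp h2)

end Cfsg.Agent.Lib.Helper71.Suz3
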