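import Mathlib
import Cfsg.Agent.Lib.Helper71.Suz3Blk2

/-!
SUZ3 ladder (helper32), rung FPFY: `card_fpf_Y`.
-/

set_option autoImplicit false
set_option linter.unusedSectionVars false

namespace Cfsg.Agent.Lib.Helper71.Suz3

open MulAction Cfsg.Agent.Lib.Helper32.Suz Cfsg.Agent.Lib.Helper69.Suz3
  Cfsg.Agent.Lib.Helper54.Zass

/-- the action of the setwise stabiliser on the set -/
def fpfy_action {G Ω : Type*} [Group G] [MulAction G Ω] (Δ : Set Ω) :
    MulAction (stabSet G Δ) Δ where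
  smul g c := ⟨g.1 • c.1, (g.2 c.1).mpr c.2⟩
  one_smul c := Subtype.ext (one_smul _ _)
  mul_smul g h c := Subtype.ext (mul_smul _ _ _)

variable {G Ω : Type*} [Group G] [Finite G] [MulAction G Ω] [Fintype Ω]
  {a b : Ω} {Q Z E : Subgroup G} {t : G} {q : ℕ}

theorem card_fpf_Y (D : ZT a b Q Z E t q) {f : G} (hf : f ∈ Z) (hfix : t • (f • b) = f • b) :
    2 * Nat.card {y : G // y ∈ stabSet G (blk a b Z) ∧ ∀ c : Ω, y • c ≠ c} + q * (q - 1)
      = (q + 1) * q * (q - 1) := by
  classical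
  letI := fpfy_action (G := G) (blk a b Z)
  haveI : Fintype (blk a b Z) := Fintype.ofFinite _
  have h2 : IsMultiplyPretransitive (stabSet G (blk a b Z)) (blk a b Z) 2 := by
    rw [is_two_pretransitive_iff]
    intro c d c' d' hcd hcd'
    obtain ⟨g, hg, h1, h2⟩ := trans2 D hf hfix c.2 d.2 c'.2 d'.2
      (fun h => hcd (Subtype.ext h)) (fun h => hcd' (Subtype.ext h))
    exact ⟨⟨g, hg⟩, Subtype.ext h1, Subtype.ext h2⟩
  have h3 : ∀ g : stabSet G (blk a b Z), ∀ a' b' c' : blk a b Z, a' ≠ b' → b' ≠ c' → a' ≠ c' →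
      g • a' = a' → g • b' = b' → g • c' = c' → g = 1 := by
    intro g c d e h1 h2 h3 h4 h5 h6
    apply Subtype.ext
    exact D.h3 g.1 c.1 d.1 e.1 (fun h => h1 (Subtype.ext h)) (fun h => h2 (Subtype.ext h))
      (fun h => h3 (Subtype.ext h)) (congrArg Subtype.val h4) (congrArg Subtype.val h5)
      (congrArg Subtype.val h6)
  have hab' : (⟨a, blk2_a_mem⟩ : blk a b Z) ≠ ⟨b, blk2_b_mem⟩ :=
    fun h => D.hab (congrArg Subtype.val h)
  have key := card_fpf h2 h3 hab'
  rw [card_Y D hf hfix] at key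
  have hcardΔ : Fintype.card (blk a b Z) = q + 1 := by
    rw [← Nat.card_eq_fintype_card, Nat.card_coe_set_eq]; exact ncard_blk D
  rw [hcardΔ] at key
  have hbij : Nat.card {g : stabSet G (blk a b Z) // ∀ c : blk a b Z, g • c ≠ c} =
      Nat.card {y : G // y ∈ stabSet G (blk a b Z) ∧ ∀ c : Ω, y • c ≠ c} := by
    apply Nat.card_congr
    exact
      { toFun := fun g => ⟨g.1.1, g.1.2, by
          intro c hc
          have g1 : g.1.1 ≠ 1 := by
            intro h
            apply g.2 ⟨a, blk2_a_mem⟩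
            apply Subtype.ext
            change g.1.1 • a = a
            rw [h, one_smul]
          have hcΔ := fix_mem D hf hfix g.1.2 g1 hc
          exact g.2 ⟨c, hcΔ⟩ (Subtype.ext hc)⟩
        invFun := fun y => ⟨⟨y.1, y.2.1⟩, fun c h => y.2.2 c.1 (congrArg Subtype.val h)⟩
        left_inv := fun g => rfl
        right_inv := fun y => rfl }
  rw [hbij] at key
  have h4 : (q + 1 - 1) * (q + 1 - 2) = q * (q - 1) := by
    congr 1
  rw [h4] at key
  exact key.symm

end Cfsg.Agent.Lib.Helper71.Suz3
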