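import Mathlib
import Cfsg.Agent.Lib.Helper71.Suz3Blk2
import Cfsg.Agent.Lib.Helper66.Suz3Cent
import Cfsg.Agent.Lib.Helper66.Suz3Torus

/-!
SUZ3 ladder (helper32), rung UNIQ: `block_unique`.
-/

set_option autoImplicit false
set_option linter.unusedSectionVars false

namespace Cfsg.Agent.Lib.Helper71.Suz3

open MulAction Cfsg.Agent.Lib.Helper32.Suz Cfsg.Agent.Lib.Helper54.Zass

variable {G Ω : Type*} [Group G] [Finite G] [MulAction G Ω] [Fintype Ω]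
  {a b : Ω} {Q Z E : Subgroup G} {t : G} {q : ℕ}

theorem uniq_conj_fpf {y : G} (h : ∀ c : Ω, y • c ≠ c) (g : G) :
    ∀ c : Ω, (g⁻¹ * y * g) • c ≠ c := by
  intro c hc
  apply h (g • c)
  rw [mul_smul, mul_smul, inv_smul_eq_iff] at hc
  exact hc

theorem uniq_inter (D : ZT a b Q Z E t q) {f : G} (hf : f ∈ Z) (hfix : t • (f • b) = f • b)
    {g : G} (hg : g ∉ stabSet G (blk a b Z)) {c d : Ω} (hc : c ∈ blk a b Z)
    (hd : d ∈ blk a b Z) (hgc : g⁻¹ • c ∈ blk a b Z) (hgd : g⁻¹ • d ∈ blk a b Z) : c = d := by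
  by_contra hcd
  apply hg
  have := steiner D hf hfix g⁻¹ hcd hc hd hgc hgd
  simpa using Subgroup.inv_mem _ this

theorem uniq_arith {q : ℕ} (hq : 4 ≤ q) (h : (q + 1) * (q + 1) ∣ q ^ 3 + 1) : False := by
  obtain ⟨r, rfl⟩ : ∃ r, q = r + 2 := ⟨q - 2, by omega⟩
  have e : (r + 2) ^ 3 + 1 = (r + 2 + 1) * ((r + 2 + 1) * r + 3) := by ring
  rw [e] at h
  have h1 : r + 2 + 1 ∣ (r + 2 + 1) * r + 3 := Nat.dvd_of_mul_dvd_mul_left (by omega) h
  have h2 : r + 2 + 1 ∣ 3 := (Nat.dvd_add_right (Dvd.intro _ rfl)).mp h1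
  have := Nat.le_of_dvd (by omega) h2
  omega

theorem block_unique (D : ZT a b Q Z E t q) {f : G} (hf : f ∈ Z) (hfix : t • (f • b) = f • b)
    (hcard : Nat.card Q = q ^ 3) {y g : G} (hy : y ∈ stabSet G (blk a b Z))
    (hfpf : ∀ c : Ω, y • c ≠ c) (hyg : g⁻¹ * y * g ∈ stabSet G (blk a b Z)) :
    g ∈ stabSet G (blk a b Z) := by
  by_contra hg
  have hdisj : ∀ c ∈ blk a b Z, g⁻¹ • c ∉ blk a b Z := by
    intro c hc hgc
    have h1 : y • c ∈ blk a b Z := (hy c).mpr hc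
    have h2 : g⁻¹ • (y • c) ∈ blk a b Z := by
      have := (hyg (g⁻¹ • c)).mpr hgc
      rwa [mul_smul, mul_smul, smul_inv_smul] at this
    exact hfpf c (uniq_inter D hf hfix hg h1 hc h2 hgc)
  obtain ⟨⟨s1, hs1Y, hs1, hs11, hs1inv⟩, A1, hA1Y, hA1c, hA1card⟩ :=
    Cfsg.Agent.Lib.Helper66.Suz3.exists_torus D hf hfix hy hfpf
  obtain ⟨⟨s2', hs2Y, hs2, hs21, hs2inv⟩, -⟩ :=
    Cfsg.Agent.Lib.Helper66.Suz3.exists_torus D hf hfix hyg (uniq_conj_fpf hfpf g)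
  obtain ⟨p1, hp1, hp1u⟩ :=
    invol_fix_unique D.h3 (blk2_odd_card D) s1 (blk2_orderOf_two hs1 hs11)
  obtain ⟨p2', hp2', -⟩ :=
    invol_fix_unique D.h3 (blk2_odd_card D) s2' (blk2_orderOf_two hs2 hs21)
  have hp1Δ := fix_mem D hf hfix hs1Y hs11 hp1
  have hp2'Δ := fix_mem D hf hfix hs2Y hs21 hp2'
  obtain ⟨s2, hs2def⟩ : ∃ s2, s2 = g * s2' * g⁻¹ := ⟨_, rfl⟩
  obtain ⟨p2, hp2def⟩ : ∃ p2, p2 = g • p2' := ⟨_, rfl⟩
  have hs2p2 : s2 • p2 = p2 := by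
    rw [hs2def, hp2def, mul_smul, mul_smul, inv_smul_smul, hp2']
  have hp2Δ : p2 ∉ blk a b Z := by
    intro h
    exact hdisj p2 h (by rw [hp2def, inv_smul_smul]; exact hp2'Δ)
  have hp12 : p1 ≠ p2 := fun h => hp2Δ (h ▸ hp1Δ)
  have hs2s2 : s2 * s2 = 1 := by
    calc s2 * s2 = g * (s2' * s2') * g⁻¹ := by rw [hs2def]; group
      _ = 1 := by rw [hs2]; group
  have hs2y : s2 * y * s2⁻¹ = y⁻¹ := by
    calc s2 * y * s2⁻¹ = g * (s2' * (g⁻¹ * y * g) * s2'⁻¹) * g⁻¹ := by rw [hs2def]; group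
      _ = g * (g⁻¹ * y * g)⁻¹ * g⁻¹ := by rw [hs2inv]
      _ = y⁻¹ := by group
  obtain ⟨c, hcdef⟩ : ∃ c, c = s1 * s2 := ⟨_, rfl⟩
  have hcy : c * y = y * c := by
    have h1 : s2 * y = y⁻¹ * s2 := mul_inv_eq_iff_eq_mul.mp hs2y
    have e1 : s1 * y = y⁻¹ * s1 := mul_inv_eq_iff_eq_mul.mp hs1inv
    have h2 : s1 * y⁻¹ = y * s1 := by
      calc s1 * y⁻¹ = y * (y⁻¹ * s1) * y⁻¹ := by group
        _ = y * (s1 * y) * y⁻¹ := by rw [e1]
        _ = y * s1 := by group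
    calc c * y = s1 * (s2 * y) := by rw [hcdef]; group
      _ = s1 * y⁻¹ * s2 := by rw [h1]; group
      _ = y * s1 * s2 := by rw [h2]
      _ = y * c := by rw [hcdef]; group
  have hc1 : c ≠ 1 := by
    intro h
    rw [hcdef] at h
    have h1 : s1 = s2 := mul_right_cancel (h.trans hs2s2.symm)
    apply hp12
    exact (hp1u p2 (h1 ▸ hs2p2)).symm
  obtain ⟨hcomm_y, hfree_y, hdvd_y⟩ :=
    Cfsg.Agent.Lib.Helper66.Suz3.cent_of_inverted D hfpf hs1 hs11 hs1inv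
  have hcfpf := hfree_y c hcy hc1
  have hs1c : s1 * c * s1⁻¹ = c⁻¹ := by
    have hs2i : s2 = s2⁻¹ := eq_inv_of_mul_eq_one_left hs2s2
    calc s1 * c * s1⁻¹ = (s1 * s1) * s2 * s1⁻¹ := by rw [hcdef]; group
      _ = s2 * s1⁻¹ := by rw [hs1, one_mul]
      _ = s2⁻¹ * s1⁻¹ := congrArg (· * s1⁻¹) hs2i
      _ = c⁻¹ := by rw [hcdef, mul_inv_rev]
  obtain ⟨hcomm_c, -, -⟩ :=
    Cfsg.Agent.Lib.Helper66.Suz3.cent_of_inverted D hcfpf hs1 hs11 hs1c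
  obtain ⟨g3, hg3a, hg3b⟩ := two_trans D.h2 D.hab hp12
  have hg3Y : g3 ∉ stabSet G (blk a b Z) := by
    intro h
    apply hp2Δ
    rw [← hg3b]
    exact (h b).mpr blk2_b_mem
  have hs1' : g3⁻¹ * s1 * g3 ∈ stabSet G (blk a b Z) := by
    apply invol_mem D hf hfix (c := a) _ blk2_a_mem
    · rw [mul_smul, mul_smul, hg3a, hp1, ← hg3a, inv_smul_smul]
    · calc g3⁻¹ * s1 * g3 * (g3⁻¹ * s1 * g3) = g3⁻¹ * (s1 * s1) * g3 := by group
        _ = 1 := by rw [hs1]; group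
  have hs2' : g3⁻¹ * s2 * g3 ∈ stabSet G (blk a b Z) := by
    apply invol_mem D hf hfix (c := b) _ blk2_b_mem
    · rw [mul_smul, mul_smul, hg3b, hs2p2, ← hg3b, inv_smul_smul]
    · calc g3⁻¹ * s2 * g3 * (g3⁻¹ * s2 * g3) = g3⁻¹ * (s2 * s2) * g3 := by group
        _ = 1 := by rw [hs2s2]; group
  have hc'Y : g3⁻¹ * c * g3 ∈ stabSet G (blk a b Z) := by
    have : g3⁻¹ * c * g3 = (g3⁻¹ * s1 * g3) * (g3⁻¹ * s2 * g3) := by rw [hcdef]; group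
    rw [this]
    exact Subgroup.mul_mem _ hs1' hs2'
  obtain ⟨-, A3, hA3Y, hA3c, hA3card⟩ :=
    Cfsg.Agent.Lib.Helper66.Suz3.exists_torus D hf hfix hc'Y (uniq_conj_fpf hcfpf g3)
  -- conjugates of elements of `A3` commute with `y`
  have hwy : ∀ x' ∈ A3, (g3 * x' * g3⁻¹) * y = y * (g3 * x' * g3⁻¹) := by
    intro x' hx'
    apply hcomm_c _ _ _ hcy.symm
    have h1 := hA3c x' hx'
    calc g3 * x' * g3⁻¹ * c = g3 * (x' * (g3⁻¹ * c * g3)) * g3⁻¹ := by group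
      _ = g3 * ((g3⁻¹ * c * g3) * x') * g3⁻¹ := by rw [h1]
      _ = c * (g3 * x' * g3⁻¹) := by group
  let φ : A1 × A3 →* G := MonoidHom.noncommCoprod A1.subtype
    ((MulAut.conj g3).toMonoidHom.comp A3.subtype) (by
      intro x x'
      exact hcomm_y _ _ (hA1c x.1 x.2) (hwy x'.1 x'.2))
  have hφ_apply : ∀ p : A1 × A3, φ p = p.1.1 * (g3 * p.2.1 * g3⁻¹) := fun p => rfl
  have hφ : Function.Injective φ := by
    rw [injective_iff_map_eq_one]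
    rintro ⟨⟨x, hx⟩, ⟨x', hx'⟩⟩ h
    rw [hφ_apply] at h
    simp only at h
    have hxw : x = g3 * x'⁻¹ * g3⁻¹ := by
      calc x = x * (g3 * x' * g3⁻¹) * (g3 * x'⁻¹ * g3⁻¹) := by group
        _ = g3 * x'⁻¹ * g3⁻¹ := by rw [h, one_mul]
    have hxp : x • p1 = p1 := by
      apply uniq_inter D hf hfix hg3Y ((hA1Y hx p1).mpr hp1Δ) hp1Δ
      · rw [hxw, mul_smul, mul_smul, inv_smul_smul, ← hg3a, inv_smul_smul]
        exact (hA3Y (A3.inv_mem hx') a).mpr blk2_a_mem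
      · rw [← hg3a, inv_smul_smul]
        exact blk2_a_mem
    have hx1 : x = 1 := by
      by_contra hne
      exact hfree_y x (hA1c x hx) hne p1 hxp
    have hx'1 : x' = 1 := by
      rw [hx1, one_mul] at h
      calc x' = g3⁻¹ * (g3 * x' * g3⁻¹) * g3 := by group
        _ = 1 := by rw [h]; group
    subst hx1 hx'1
    rfl
  have hcardr : Nat.card φ.range = (q + 1) * (q + 1) := by
    rw [← Nat.card_congr (MonoidHom.ofInjective hφ).toEquiv, Nat.card_prod, hA1card, hA3card]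
  have hle : φ.range ≤ Subgroup.centralizer {y} := by
    rintro _ ⟨⟨⟨x, hx⟩, ⟨x', hx'⟩⟩, rfl⟩
    rw [Subgroup.mem_centralizer_singleton_iff, hφ_apply]
    simp only
    have h1 := hA1c x hx
    have h2 := hwy x' hx'
    calc x * (g3 * x' * g3⁻¹) * y = x * ((g3 * x' * g3⁻¹) * y) := by group
      _ = x * (y * (g3 * x' * g3⁻¹)) := by rw [h2]
      _ = (x * y) * (g3 * x' * g3⁻¹) := by group
      _ = y * (x * (g3 * x' * g3⁻¹)) := by rw [h1]; group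
  have hdvd := (Subgroup.card_dvd_of_le hle).trans hdvd_y
  rw [hcardr, ← D.Qcard, hcard] at hdvd
  exact uniq_arith D.hq hdvd

end Cfsg.Agent.Lib.Helper71.Suz3
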