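import Mathlib
import Cfsg.Agent.Lib.Helper71.Suz3Fpfy
import Cfsg.Agent.Lib.Helper71.Suz3Uniq

/-!
SUZ3 ladder (helper32), rung FIN: `no_alpha_cube`.
-/

set_option autoImplicit false
set_option linter.unusedSectionVars false

namespace Cfsg.Agent.Lib.Helper71.Suz3

open MulAction Cfsg.Agent.Lib.Helper32.Suz Cfsg.Agent.Lib.Helper69.Suz3
  Cfsg.Agent.Lib.Helper54.Zass

variable {G Ω : Type*} [Group G] [Finite G] [MulAction G Ω] [Fintype Ω]
  {a b : Ω} {Q Z E : Subgroup G} {t : G} {q : ℕ}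

theorem fin_arith {r I N M : ℕ} (hr : 0 < r)
    (hidx : I * ((r + 1 + 1) * (r + 1) * r) = ((r + 1) ^ 3 + 1) * (r + 1) ^ 3 * r)
    (hfY : 2 * N + (r + 1) * r = (r + 1 + 1) * (r + 1) * r)
    (hfG : ((r + 1) ^ 3 + 1) * (r + 1) ^ 3 * r = 2 * M + (r + 1) ^ 3 * (r ^ 3 + 3 * r ^ 2 + 3 * r))
    (hle : I * N ≤ M) : False := by
  have hI : I = (r ^ 2 + r + 1) * (r + 1) ^ 2 := by
    have hpos : 0 < (r + 1 + 1) * (r + 1) * r := by positivity
    apply Nat.eq_of_mul_eq_mul_right hpos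
    rw [hidx]
    ring
  have hN : 2 * N = (r + 1) ^ 2 * r := by
    have : (r + 1 + 1) * (r + 1) * r = (r + 1) ^ 2 * r + (r + 1) * r := by ring
    omega
  have h1 : I * (2 * N) ≤ 2 * M := by
    calc I * (2 * N) = 2 * (I * N) := by ring
      _ ≤ 2 * M := Nat.mul_le_mul_left 2 hle
  rw [hI, hN] at h1
  have h2 : (r ^ 2 + r + 1) * (r + 1) ^ 2 * ((r + 1) ^ 2 * r) +
      (r + 1) ^ 3 * (r ^ 3 + 3 * r ^ 2 + 3 * r) =
      ((r + 1) ^ 3 + 1) * (r + 1) ^ 3 * r + 2 * r * (r + 1) ^ 4 := by ring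
  have h3 : 0 < 2 * r * (r + 1) ^ 4 := by positivity
  omega

theorem no_alpha_cube (D : ZT a b Q Z E t q) {f : G} (hf : f ∈ Z) (hfix : t • (f • b) = f • b)
    (hcard : Nat.card Q = q ^ 3) : False := by
  set Y := stabSet G (blk a b Z) with hY
  let φ : (G ⧸ Y) × {y : G // y ∈ Y ∧ ∀ c : Ω, y • c ≠ c} → {g : G // ∀ c : Ω, g • c ≠ c} :=
    fun p => ⟨p.1.out * p.2.1 * p.1.out⁻¹, by
      intro c hc
      apply p.2.2.2 (p.1.out⁻¹ • c)
      rw [mul_smul, mul_smul] at hc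
      rw [eq_inv_smul_iff]
      exact hc⟩
  have hφ : Function.Injective φ := by
    rintro ⟨κ, y⟩ ⟨κ', y'⟩ h
    have h1 : κ.out * y.1 * κ.out⁻¹ = κ'.out * y'.1 * κ'.out⁻¹ := congrArg Subtype.val h
    have h2 : (κ.out⁻¹ * κ'.out)⁻¹ * y.1 * (κ.out⁻¹ * κ'.out) = y'.1 := by
      have : y.1 = κ.out⁻¹ * (κ.out * y.1 * κ.out⁻¹) * κ.out := by group
      rw [this, h1]
      group
    have h3 : κ.out⁻¹ * κ'.out ∈ Y :=
      block_unique D hf hfix hcard y.2.1 y.2.2 (h2 ▸ y'.2.1)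
    have h4 : κ = κ' := by
      rw [← QuotientGroup.out_eq' κ, ← QuotientGroup.out_eq' κ']
      exact QuotientGroup.eq.mpr h3
    subst h4
    have h5 : y.1 = y'.1 := by
      simpa using h1
    exact Prod.ext rfl (Subtype.ext h5)
  have hle := Nat.card_le_card_of_injective φ hφ
  rw [Nat.card_prod] at hle
  have hG := card_group D.h2 D.hab
  rw [← D.hE, D.Ecard, ← D.Qcard, hcard] at hG
  have hfG := card_fpf D.h2 D.h3 D.hab
  rw [← D.Qcard, hcard, hG] at hfG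
  have hYc : Nat.card Y = (q + 1) * q * (q - 1) := card_Y D hf hfix
  have hfY := card_fpf_Y D hf hfix
  have hidx : Nat.card (G ⧸ Y) * Nat.card Y = Nat.card G := Subgroup.index_mul_card Y
  rw [hYc, hG] at hidx
  have hq := D.hq
  obtain ⟨r, rfl⟩ : ∃ r, q = r + 1 := ⟨q - 1, by omega⟩
  have e1 : r + 1 - 1 = r := by omega
  have e2 : (r + 1) ^ 3 + 1 - 1 = (r + 1) ^ 3 := by omega
  have e3 : (r + 1) ^ 3 + 1 - 2 = r ^ 3 + 3 * r ^ 2 + 3 * r := by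
    have : (r + 1) ^ 3 = r ^ 3 + 3 * r ^ 2 + 3 * r + 1 := by ring
    omega
  rw [e1, e2] at hidx
  rw [e1] at hfY
  rw [e1, e2, e3] at hfG
  exact fin_arith (by omega) hidx hfY hfG hle

end Cfsg.Agent.Lib.Helper71.Suz3
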