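import Mathlib
import Cfsg.Agent.Lib.Helper71.Basic
import Cfsg.Agent.Lib.Helper1.Coprime3
import Cfsg.Agent.Lib.Helper75.SylowCoprime

set_option autoImplicit false

namespace Cfsg.Agent.Lib.Helper71

open scoped Pointwise

/-- `n` is a π-number. -/
def PiNum (π : Set ℕ) (n : ℕ) : Prop := ∀ p : ℕ, p.Prime → p ∣ n → p ∈ π

/-- `n` is a π'-number. -/
def PiNum' (π : Set ℕ) (n : ℕ) : Prop := ∀ p : ℕ, p.Prime → p ∣ n → p ∉ π

theorem PiNum.coprime {π : Set ℕ} {a b : ℕ} (ha : PiNum π a) (hb : PiNum' π b) : Nat.Coprime a b :=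
  Nat.Coprime.symm (Nat.coprime_of_dvd (fun k hk hkb hka => hb k hk hkb (ha k hk hka)))

theorem PiNum.of_dvd {π : Set ℕ} {a b : ℕ} (hb : PiNum π b) (h : a ∣ b) : PiNum π a :=
  fun p hp hpa => hb p hp (hpa.trans h)

theorem PiNum'.of_dvd {π : Set ℕ} {a b : ℕ} (hb : PiNum' π b) (h : a ∣ b) : PiNum' π a :=
  fun p hp hpa => hb p hp (hpa.trans h)

theorem PiNum.mul {π : Set ℕ} {a b : ℕ} (ha : PiNum π a) (hb : PiNum π b) : PiNum π (a * b) :=
  fun p hp hpab => (hp.dvd_mul.mp hpab).elim (ha p hp) (hb p hp)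

theorem piNum_prime_pow {π : Set ℕ} {r : ℕ} (hr : r ∈ π) (hrp : r.Prime) (k : ℕ) :
    PiNum π (r ^ k) := by
  intro p hp hpr
  rw [(Nat.prime_dvd_prime_iff_eq hp hrp).mp (hp.dvd_of_dvd_pow hpr)]
  exact hr

theorem piNum'_prime_pow {π : Set ℕ} {r : ℕ} (hr : r ∉ π) (hrp : r.Prime) (k : ℕ) :
    PiNum' π (r ^ k) := by
  intro p hp hpr
  rw [(Nat.prime_dvd_prime_iff_eq hp hrp).mp (hp.dvd_of_dvd_pow hpr)]
  exact hr

/-- A subgroup containing a Sylow subgroup for each prime divisor of its index is everything. -/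
theorem eq_top_of_forall_sylow_le {H : Type*} [Group H] [Finite H] (D : Subgroup H)
    (h : ∀ q : ℕ, [Fact q.Prime] → q ∣ D.index → ∃ S : Sylow q H, (S : Subgroup H) ≤ D) : D = ⊤ := by
  by_contra hD
  have h1 : D.index ≠ 1 := fun h1 => hD (Subgroup.index_eq_one.mp h1)
  obtain ⟨q, hq, hqd⟩ := Nat.exists_prime_and_dvd h1
  have : Fact q.Prime := ⟨hq⟩
  obtain ⟨S, hS⟩ := h q hqd
  exact S.not_dvd_index (hqd.trans (Subgroup.index_dvd_of_le hS))

/-- If `D` contains all elements of `H` of `q`-power order, then `q` does not divide the relative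
index. -/
theorem not_dvd_relIndex_of_forall {G : Type*} [Group G] [Finite G] (D H : Subgroup G) (q : ℕ)
    (hq : q.Prime) (h : ∀ x ∈ H, (∃ k : ℕ, orderOf x = q ^ k) → x ∈ D) : ¬ q ∣ D.relIndex H := by
  have : Fact q.Prime := ⟨hq⟩
  obtain ⟨S⟩ : Nonempty (Sylow q H) := inferInstance
  have hS : (S : Subgroup H) ≤ D.subgroupOf H := by
    intro x hx
    rw [Subgroup.mem_subgroupOf]
    apply h x.1 x.2
    obtain ⟨k, hk⟩ := (IsPGroup.iff_orderOf.mp S.isPGroup') ⟨x, hx⟩
    refine ⟨k, ?_⟩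
    rw [← hk, Subgroup.orderOf_mk, Subgroup.orderOf_coe]
  intro hd
  exact S.not_dvd_index (hd.trans (Subgroup.index_dvd_of_le hS))

/-- Elementwise homogeneity: `r`-elements (`r ∈ π`) normalizing a `q`-subgroup (`q ∉ π`)
centralize it. -/
def Hom1 (π : Set ℕ) (G : Type*) [Group G] : Prop :=
  ∀ q : ℕ, q.Prime → q ∉ π → ∀ Q : Subgroup G, IsPGroup q Q → ∀ r ∈ π, r.Prime →
    ∀ x ∈ Subgroup.normalizer (Q : Set G), (∃ k : ℕ, orderOf x = r ^ k) →
      x ∈ Subgroup.centralizer (Q : Set G)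

theorem hom1_of_hom {G : Type*} [Group G] [Finite G] (π : Set ℕ)
    (hhom : ∀ H : Subgroup G, H ≠ ⊥ → (∀ p : ℕ, p.Prime → p ∣ Nat.card ↥H → p ∉ π) →
        ∀ p : ℕ, p.Prime → p ∣ (Subgroup.centralizer (H : Set G)).relIndex
          (Subgroup.normalizer (H : Set G)) → p ∉ π) : Hom1 π G := by
  intro q hq hqπ Q hQ r hr hrp x hx ⟨k, hk⟩
  have : Fact q.Prime := ⟨hq⟩
  by_cases hne : Q = ⊥
  · subst hne
    rw [Subgroup.mem_centralizer_iff]
    intro y hy
    rw [Subgroup.mem_bot.mp hy]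
    simp
  have h1 := hhom Q hne (by
    obtain ⟨j, hj⟩ := hQ.exists_card_eq
    rw [hj]
    exact piNum'_prime_pow hqπ hq j)
  set n := (Subgroup.centralizer (Q : Set G)).relIndex (Subgroup.normalizer (Q : Set G)) with hn
  have hrn : ¬ r ∣ n := fun h => h1 r hrp h hr
  have h2 : (⟨x, hx⟩ : Subgroup.normalizer (Q : Set G)) ^ n ∈
      (Subgroup.centralizer (Q : Set G)).subgroupOf (Subgroup.normalizer (Q : Set G)) :=
    Subgroup.pow_index_mem _ _
  have h3 : x ^ n ∈ Subgroup.centralizer (Q : Set G) := h2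
  refine mem_of_pow_mem_of_coprime _ x (a := n) (b := r ^ k) ?_ h3 ?_
  · exact Nat.Coprime.pow_right k ((Nat.Prime.coprime_iff_not_dvd hrp).mpr hrn).symm
  · rw [← hk, pow_orderOf_eq_one]
    exact one_mem _

open Cfsg.Agent.Lib.Helper1 in
/-- Elementwise homogeneity passes to quotients. -/
theorem Hom1.quot {G : Type*} [Group G] [Finite G] {π : Set ℕ} (h : Hom1 π G)
    (L : Subgroup G) [L.Normal] : Hom1 π (G ⧸ L) := by
  intro q hq hqπ Qb hQb r hr hrp xb hxb ⟨k, hk⟩
  have : Fact q.Prime := ⟨hq⟩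
  obtain ⟨x, rfl⟩ := QuotientGroup.mk'_surjective L xb
  set X : Subgroup G := Qb.comap (QuotientGroup.mk' L) with hX
  have hmapX : X.map (QuotientGroup.mk' L) = Qb :=
    Subgroup.map_comap_eq_self_of_surjective (QuotientGroup.mk'_surjective L) Qb
  have hLX : L ≤ X := by
    intro l hl
    rw [hX, Subgroup.mem_comap]
    have : QuotientGroup.mk' L l = 1 := (QuotientGroup.eq_one_iff l).mpr hl
    rw [this]
    exact one_mem _
  obtain ⟨Q, hQ⟩ := exists_isSylowIn q X
  -- `Q L = X`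
  have hQL : Q ⊔ L = X := by
    have hle : Q ⊔ L ≤ X := sup_le hQ.1 hLX
    have h1 : (Q ⊔ L).relIndex X ∣ Q.relIndex X := Subgroup.relIndex_dvd_of_le_left X le_sup_left
    have h2 : (Q ⊔ L).relIndex X ∣ L.relIndex X := Subgroup.relIndex_dvd_of_le_left X le_sup_right
    have h3 : L.relIndex X = Nat.card Qb := by
      have : L = (⊥ : Subgroup (G ⧸ L)).comap (QuotientGroup.mk' L) := by
        rw [MonoidHom.comap_bot, QuotientGroup.ker_mk']
      conv_lhs => rw [this]
      rw [Subgroup.relIndex_comap, hmapX, Subgroup.relIndex_bot_left]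
    obtain ⟨j, hj⟩ := hQb.exists_card_eq
    rw [h3, hj] at h2
    obtain ⟨i, -, hi⟩ := (Nat.dvd_prime_pow hq).mp h2
    have hi0 : i = 0 := by
      by_contra hi0
      apply hQ.2.2
      refine dvd_trans ?_ h1
      rw [hi]
      exact dvd_pow_self q hi0
    rw [hi0, pow_zero] at hi
    exact le_antisymm hle (Subgroup.relIndex_eq_one.mp hi)
  have hxX : x ∈ Subgroup.normalizer (X : Set G) := by
    rw [Subgroup.mem_normalizer_iff]
    intro y
    have := Subgroup.mem_normalizer_iff.mp hxb (QuotientGroup.mk' L y)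
    simp only [hX, Subgroup.mem_comap, map_mul, map_inv]
    exact this
  obtain ⟨y, hyX, hy⟩ := (hQ.conj hxX).exists_conj hQ
  rw [← hQL, Subgroup.mem_sup_of_normal_right] at hyX
  obtain ⟨a, ha, b, hb, rfl⟩ := hyX
  have hbx : b * x ∈ Subgroup.normalizer (Q : Set G) := by
    have h1 : a * b * x ∈ Subgroup.normalizer (Q : Set G) := by
      rw [mem_normalizer_iff_conj_smul, conj_mul_smul]
      exact hy
    have h2 : a⁻¹ ∈ Subgroup.normalizer (Q : Set G) := Subgroup.le_normalizer (inv_mem ha)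
    have h3 := mul_mem h2 h1
    have h4 : a⁻¹ * (a * b * x) = b * x := by group
    rwa [h4] at h3
  have hmk : QuotientGroup.mk' L (b * x) = QuotientGroup.mk' L x := by
    have hb1 : QuotientGroup.mk' L b = 1 := (QuotientGroup.eq_one_iff b).mpr hb
    rw [map_mul, hb1, one_mul]
  set x' := b * x with hx'
  obtain ⟨j, m', hm', hm⟩ := Nat.exists_eq_pow_mul_and_not_dvd (orderOf_pos x').ne' r hrp.ne_one
  have hC : x' ^ m' ∈ Subgroup.centralizer (Q : Set G) := by
    apply h q hq hqπ Q hQ.2.1 r hr hrp _ (pow_mem hbx m')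
    have h1 : orderOf (x' ^ m') ∣ r ^ j := by
      apply orderOf_dvd_of_pow_eq_one
      rw [← pow_mul, mul_comm, ← hm, pow_orderOf_eq_one]
    obtain ⟨i, -, hi⟩ := (Nat.dvd_prime_pow hrp).mp h1
    exact ⟨i, hi⟩
  have hmapQ : Q.map (QuotientGroup.mk' L) = Qb := by
    rw [← hmapX, ← hQL, Subgroup.map_sup]
    have : L.map (QuotientGroup.mk' L) = ⊥ := by
      rw [Subgroup.map_eq_bot_iff, QuotientGroup.ker_mk']
    rw [this, sup_bot_eq]
  have hCb : (QuotientGroup.mk' L x) ^ m' ∈ Subgroup.centralizer (Qb : Set (G ⧸ L)) := by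
    rw [Subgroup.mem_centralizer_iff]
    intro yb hyb
    rw [SetLike.mem_coe, ← hmapQ] at hyb
    obtain ⟨y, hyQ, rfl⟩ := hyb
    rw [← hmk, ← map_pow, ← map_mul, ← map_mul, Subgroup.mem_centralizer_iff.mp hC y hyQ]
  refine mem_of_pow_mem_of_coprime _ _ (a := m') (b := r ^ k) ?_ hCb ?_
  · exact Nat.Coprime.pow_right k ((Nat.Prime.coprime_iff_not_dvd hrp).mpr hm').symm
  · rw [← hk, pow_orderOf_eq_one]
    exact one_mem _

/-- Under elementwise homogeneity, `r`-elements (`r ∈ π`) centralize normal π'-subgroups. -/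
theorem Hom1.prime_pow_centralizes {G : Type*} [Group G] [Finite G] {π : Set ℕ} (h : Hom1 π G)
    (K : Subgroup G) [K.Normal] (hK : PiNum' π (Nat.card K)) {r : ℕ} (hr : r ∈ π) (hrp : r.Prime)
    (x : G) (hx : ∃ k : ℕ, orderOf x = r ^ k) : x ∈ Subgroup.centralizer (K : Set G) := by
  have : Fact r.Prime := ⟨hrp⟩
  have hR : IsPGroup r (Subgroup.zpowers x) := by
    obtain ⟨k, hk⟩ := hx
    apply IsPGroup.of_card (n := k)
    rw [Nat.card_zpowers, hk]
  have htop : (Subgroup.centralizer ({x} : Set G)).subgroupOf K = ⊤ := by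
    apply eq_top_of_forall_sylow_le
    intro q _ hq
    have hqp : q.Prime := Fact.out
    have hqπ : q ∉ π := hK q hqp (hq.trans (Subgroup.index_dvd_card _))
    obtain ⟨S, hS⟩ := Cfsg.Agent.Lib.Helper75.exists_invariant_sylow (q := q) (Subgroup.zpowers x) K hR
      (by rw [Subgroup.normalizer_eq_top]; exact le_top) (fun hd => hK r hrp hd hr)
    refine ⟨S, ?_⟩
    have hc := h q hqp hqπ _ (S.isPGroup'.map K.subtype) r hr hrp x (hS (Subgroup.mem_zpowers x)) hx
    intro y hy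
    rw [Subgroup.mem_subgroupOf, Subgroup.mem_centralizer_singleton_iff]
    exact (Subgroup.mem_centralizer_iff.mp hc y.1 ⟨y, hy, rfl⟩)
  rw [Subgroup.mem_centralizer_iff]
  intro y hy
  have : (⟨y, hy⟩ : K) ∈ (Subgroup.centralizer ({x} : Set G)).subgroupOf K := by
    rw [htop]; trivial
  rw [Subgroup.mem_subgroupOf, Subgroup.mem_centralizer_singleton_iff] at this
  exact this

/-- Under elementwise homogeneity, π-elements centralize normal π'-subgroups. -/
theorem Hom1.centralizes {G : Type*} [Group G] [Finite G] {π : Set ℕ} (h : Hom1 π G)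
    (K : Subgroup G) [K.Normal] (hK : PiNum' π (Nat.card K))
    (x : G) (hx : PiNum π (orderOf x)) : x ∈ Subgroup.centralizer (K : Set G) := by
  have htop : (Subgroup.centralizer (K : Set G)).subgroupOf (Subgroup.zpowers x) = ⊤ := by
    rw [← Subgroup.index_eq_one]
    by_contra h1
    obtain ⟨r, hrp, hrd⟩ := Nat.exists_prime_and_dvd h1
    have hr : r ∈ π := by
      apply hx r hrp
      rw [← Nat.card_zpowers]
      exact hrd.trans (Subgroup.index_dvd_card _)
    exact not_dvd_relIndex_of_forall _ _ r hrp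
      (fun y _ hy => h.prime_pow_centralizes K hK hr hrp y hy) hrd
  have : (⟨x, Subgroup.mem_zpowers x⟩ : Subgroup.zpowers x) ∈
      (Subgroup.centralizer (K : Set G)).subgroupOf (Subgroup.zpowers x) := by
    rw [htop]; trivial
  exact this

/-- Key case: `K` a normal π'-subgroup, `M` a subgroup which is a π-group modulo `K`. Then the
π-elements of `M` form a subgroup. -/
theorem Hom1.exists_of_pi' {G : Type*} [Group G] [Finite G] {π : Set ℕ} (h : Hom1 π G)
    (K : Subgroup G) [K.Normal] (hK : PiNum' π (Nat.card K)) (M : Subgroup G)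
    (hM : ∀ m ∈ M, ∃ a : ℕ, PiNum π a ∧ m ^ a ∈ K) :
    ∃ N : Subgroup G, ∀ x : G, x ∈ N ↔ x ∈ M ∧ PiNum π (orderOf x) := by
  set C₁ : Subgroup G := Subgroup.centralizer (K : Set G) ⊓ M with hC₁
  set Z : Subgroup C₁ := K.subgroupOf C₁ with hZ
  have hZc : Z ≤ Subgroup.center C₁ := by
    intro z hz
    rw [Subgroup.mem_center_iff]
    intro g
    apply Subtype.ext
    exact (Subgroup.mem_centralizer_iff.mp g.2.1 z.1 hz).symm
  set n := Z.index with hn
  have hnπ : PiNum π n := by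
    intro q hq hqn
    by_contra hqπ
    refine not_dvd_relIndex_of_forall K C₁ q hq ?_ hqn
    rintro y hy ⟨k, hk⟩
    obtain ⟨a, ha, hya⟩ := hM y hy.2
    refine mem_of_pow_mem_of_coprime K y (a := a) (b := q ^ k) ?_ hya ?_
    · exact ha.coprime (piNum'_prime_pow hqπ hq k)
    · rw [← hk, pow_orderOf_eq_one]
      exact one_mem _
  set c := (Subgroup.center C₁).index with hc
  have hcn : c ∣ n := Subgroup.index_dvd_of_le hZc
  have hmul : ∀ x y : C₁, (x * y) ^ n = x ^ n * y ^ n := by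
    intro x y
    have h1 : (x * y) ^ c = x ^ c * y ^ c := by
      have := congrArg Subtype.val (map_mul (MonoidHom.transferCenterPow C₁) x y)
      rwa [Subgroup.coe_mul, MonoidHom.transferCenterPow_apply, MonoidHom.transferCenterPow_apply,
        MonoidHom.transferCenterPow_apply] at this
    have h2 : Commute (x ^ c) (y ^ c) := by
      have h3 : y ^ c ∈ Subgroup.center C₁ := by
        rw [← MonoidHom.transferCenterPow_apply]
        exact (MonoidHom.transferCenterPow C₁ y).2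
      exact Subgroup.mem_center_iff.mp h3 (x ^ c)
    obtain ⟨d, hd⟩ := hcn
    rw [hd, pow_mul, pow_mul, pow_mul, h1, h2.mul_pow]
  let φ : C₁ →* C₁ := MonoidHom.mk' (fun x => x ^ n) hmul
  have hφ : ∀ x : C₁, φ x = x ^ n := fun x => rfl
  refine ⟨φ.ker.map C₁.subtype, fun x => ?_⟩
  constructor
  · rintro ⟨y, hy, rfl⟩
    have h1 : y ^ n = 1 := by
      rw [← hφ, MonoidHom.mem_ker.mp hy]
    refine ⟨y.2.2, hnπ.of_dvd ?_⟩
    rw [Subgroup.coe_subtype, Subgroup.orderOf_coe]
    exact orderOf_dvd_of_pow_eq_one h1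
  · rintro ⟨hxM, hxπ⟩
    have hxC : x ∈ C₁ := ⟨h.centralizes K hK x hxπ, hxM⟩
    refine ⟨⟨x, hxC⟩, ?_, rfl⟩
    rw [SetLike.mem_coe, MonoidHom.mem_ker]
    rw [hφ]
    have h1 : (⟨x, hxC⟩ : C₁) ^ n ∈ Z := Subgroup.pow_index_mem _ _
    have h2 : x ^ n ∈ K := h1
    have h3 : orderOf (x ^ n) ∣ orderOf x := orderOf_pow_dvd n
    have h4 : orderOf (x ^ n) ∣ Nat.card K := Subgroup.orderOf_dvd_natCard K h2
    have h5 : orderOf (x ^ n) = 1 := Nat.eq_one_of_dvd_coprimes (hxπ.coprime hK) h3 h4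
    apply Subtype.ext
    exact orderOf_eq_one_iff.mp h5

/-- π-elements of a quotient by a normal π-subgroup lift. -/
theorem piNum_orderOf_mk_iff {G : Type*} [Group G] [Finite G] {π : Set ℕ}
    (L : Subgroup G) [L.Normal] (hL : PiNum π (Nat.card L)) (x : G) :
    PiNum π (orderOf (QuotientGroup.mk' L x)) ↔ PiNum π (orderOf x) := by
  constructor
  · intro h
    refine (h.mul hL).of_dvd ?_
    apply orderOf_dvd_of_pow_eq_one
    have h1 : x ^ orderOf (QuotientGroup.mk' L x) ∈ L := by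
      rw [← QuotientGroup.eq_one_iff]
      have := pow_orderOf_eq_one (QuotientGroup.mk' L x)
      rwa [← map_pow] at this
    rw [pow_mul]
    exact congrArg Subtype.val (pow_card_eq_one' (G := L) (x := ⟨_, h1⟩))
  · intro h
    exact h.of_dvd (orderOf_map_dvd _ x)

/-- Main theorem: `L ≤ K ≤ M` with `L`, `K` normal, `L` a π-group, `K / L` a π'-group, `M / K` a
π-group, in an elementwise homogeneous group: the π-elements of `M` form a subgroup. -/
theorem Hom1.exists_piElements {G : Type*} [Group G] [Finite G] {π : Set ℕ} (h : Hom1 π G)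
    (L K M : Subgroup G) [L.Normal] [K.Normal] (hLK : L ≤ K) (hKM : K ≤ M)
    (hL : PiNum π (Nat.card L)) (hK : PiNum' π (L.relIndex K))
    (hM : ∀ m ∈ M, ∃ a : ℕ, PiNum π a ∧ m ^ a ∈ K) :
    ∃ N : Subgroup G, ∀ x : G, x ∈ N ↔ x ∈ M ∧ PiNum π (orderOf x) := by
  have hn : (K.map (QuotientGroup.mk' L)).Normal :=
    Subgroup.Normal.map inferInstance _ (QuotientGroup.mk'_surjective L)
  have hcard : Nat.card (K.map (QuotientGroup.mk' L)) = L.relIndex K := by
    have : L = (⊥ : Subgroup (G ⧸ L)).comap (QuotientGroup.mk' L) := by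
      rw [MonoidHom.comap_bot, QuotientGroup.ker_mk']
    conv_rhs => rw [this]
    rw [Subgroup.relIndex_comap, Subgroup.relIndex_bot_left]
  obtain ⟨N, hN⟩ := (h.quot L).exists_of_pi' (K.map (QuotientGroup.mk' L)) (by rw [hcard]; exact hK)
    (M.map (QuotientGroup.mk' L)) (by
      rintro _ ⟨m, hm, rfl⟩
      obtain ⟨a, ha, hma⟩ := hM m hm
      exact ⟨a, ha, m ^ a, hma, map_pow _ _ _⟩)
  refine ⟨N.comap (QuotientGroup.mk' L), fun x => ?_⟩
  rw [Subgroup.mem_comap, hN, piNum_orderOf_mk_iff L hL]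
  refine and_congr_left (fun _ => ?_)
  constructor
  · rintro ⟨m, hm, hmx⟩
    have h1 : m⁻¹ * x ∈ L := QuotientGroup.eq.mp hmx
    have h2 : m * (m⁻¹ * x) ∈ M := mul_mem hm (hKM (hLK h1))
    rwa [mul_inv_cancel_left] at h2
  · intro hx
    exact ⟨x, hx, rfl⟩

theorem orderOf_conj_eq {G : Type*} [Group G] (g x : G) : orderOf (g * x * g⁻¹) = orderOf x :=
  (MulAut.conj g).orderOf_eq x

/-- The subgroup of π-elements of a normal subgroup is normal. -/
theorem piElements_normal {G : Type*} [Group G] {π : Set ℕ} (L K : Subgroup G) [K.Normal]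
    (hL : ∀ x : G, x ∈ L ↔ x ∈ K ∧ PiNum π (orderOf x)) : L.Normal := by
  constructor
  intro x hx g
  obtain ⟨h1, h2⟩ := (hL x).mp hx
  rw [hL, orderOf_conj_eq]
  exact ⟨Subgroup.Normal.conj_mem inferInstance x h1 g, h2⟩

theorem piElements_card {G : Type*} [Group G] [Finite G] {π : Set ℕ} (L K : Subgroup G)
    (hL : ∀ x : G, x ∈ L ↔ x ∈ K ∧ PiNum π (orderOf x)) : PiNum π (Nat.card L) := by
  intro p hp hpL
  have : Fact p.Prime := ⟨hp⟩
  obtain ⟨x, hx⟩ := exists_prime_orderOf_dvd_card' p hpL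
  have h1 := ((hL x.1).mp x.2).2
  rw [Subgroup.orderOf_coe, hx] at h1
  exact h1 p hp dvd_rfl

theorem piElements_relIndex {G : Type*} [Group G] [Finite G] {π : Set ℕ} (L K : Subgroup G)
    (hL : ∀ x : G, x ∈ L ↔ x ∈ K ∧ PiNum π (orderOf x)) : PiNum' π (L.relIndex K) := by
  intro p hp hpL hpπ
  refine not_dvd_relIndex_of_forall L K p hp ?_ hpL
  rintro x hx ⟨k, hk⟩
  rw [hL, hk]
  exact ⟨hx, piNum_prime_pow hpπ hp k⟩

/-- In a group, an element whose order is coprime to the relative index of the normal subgroup `K`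
in `M` and which lies in `M` lies in `K`. -/
theorem mem_of_coprime_relIndex {G : Type*} [Group G] (K M : Subgroup G) [K.Normal]
    (x : G) (hx : x ∈ M) (hc : Nat.Coprime (orderOf x) (K.relIndex M)) : x ∈ K := by
  have h1 : (⟨x, hx⟩ : M) ^ (K.relIndex M) ∈ K.subgroupOf M := Subgroup.pow_index_mem _ _
  have h2 : x ^ (K.relIndex M) ∈ K := h1
  exact mem_of_pow_mem_of_coprime K x hc (by rw [pow_orderOf_eq_one]; exact one_mem _) h2

/-- One step of the induction along a π-separable normal series. -/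
theorem Hom1.step {G : Type*} [Group G] [Finite G] {π : Set ℕ} (h : Hom1 π G)
    (K M : Subgroup G) [K.Normal] (hKM : K ≤ M)
    (hK : ∃ N : Subgroup G, ∀ x : G, x ∈ N ↔ x ∈ K ∧ PiNum π (orderOf x))
    (hM : PiNum π (K.relIndex M) ∨ PiNum' π (K.relIndex M)) :
    ∃ N : Subgroup G, ∀ x : G, x ∈ N ↔ x ∈ M ∧ PiNum π (orderOf x) := by
  obtain ⟨L, hL⟩ := hK
  rcases hM with hM | hM
  · have := piElements_normal L K hL
    refine h.exists_piElements L K M (fun x hx => ((hL x).mp hx).1) hKM (piElements_card L K hL)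
      (piElements_relIndex L K hL) ?_
    intro m hm
    refine ⟨K.relIndex M, hM, ?_⟩
    have h1 : (⟨m, hm⟩ : M) ^ (K.relIndex M) ∈ K.subgroupOf M := Subgroup.pow_index_mem _ _
    exact h1
  · refine ⟨L, fun x => ?_⟩
    rw [hL]
    constructor
    · rintro ⟨h1, h2⟩
      exact ⟨hKM h1, h2⟩
    · rintro ⟨h1, h2⟩
      exact ⟨mem_of_coprime_relIndex K M x h1 (h2.coprime hM), h2⟩

end Cfsg.Agent.Lib.Helper71
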