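import Mathlib
import Cfsg.Agent.S0078
import Cfsg.Agent.Lib.Helper62.ThompsonJ
import Cfsg.Agent.Lib.Helper74.NilAux
import Cfsg.Agent.Lib.Helper74.MaxSolvable
import Cfsg.Agent.Lib.Helper1.Coprime3
import Cfsg.Agent.Lib.Helper2.PResidual
import Cfsg.Agent.Lib.Helper11.NPC
import Cfsg.Agent.Lib.Helper13.Schmidt
import Cfsg.Agent.Lib.Helper71.PiClosed

/-! Groups with a nilpotent maximal subgroup (Thompson, Deskins, Janko). -/

set_option autoImplicit false

namespace Cfsg.Agent.Lib.Helper71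

open Subgroup Cfsg.Agent.Lib.Helper77 Cfsg.Agent.Lib.Helper62
open scoped commutatorElement

/-- conjugation as a monoid hom -/
abbrev cjh {G : Type*} [Group G] (g : G) : G →* G := (MulAut.conj g).toMonoidHom

theorem normalizer_eq_of_coatom {G : Type*} [Group G] (M : Subgroup G) (hmax : IsCoatom M)
    (hcore : M.normalCore = ⊥) (X : Subgroup G) (hXM : X ≤ M) (hX : X ≠ ⊥)
    (hMX : M ≤ normalizer (X : Set G)) : normalizer (X : Set G) = M := by
  rcases hmax.le_iff.mp hMX with h | h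
  · exfalso
    have hn : X.Normal := Subgroup.normalizer_eq_top_iff.mp h
    have h1 := (Subgroup.normal_le_normalCore (H := M) (N := X)).mpr hXM
    rw [hcore] at h1
    exact hX (le_bot_iff.mp h1)
  · exact h

/-- decomposition of an element into its `p`-part and `p'`-part -/
theorem exists_p_decomp {H : Type*} [Group H] [Finite H] (p : ℕ) [Fact p.Prime] (x : H) :
    ∃ u c : H, u ∈ zpowers x ∧ c ∈ zpowers x ∧ x = u * c ∧ (∃ k : ℕ, u ^ (p ^ k) = 1) ∧
      (orderOf c).Coprime p := by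
  obtain ⟨k, r, hr, hxr⟩ := Nat.exists_eq_pow_mul_and_not_dvd (orderOf_pos x).ne' p
    (Fact.out : p.Prime).ne_one
  have hcop : Nat.Coprime (p ^ k) r :=
    Nat.Coprime.pow_left k ((Nat.Prime.coprime_iff_not_dvd Fact.out).2 hr)
  have hb := Int.gcd_eq_gcd_ab (p ^ k : ℕ) r
  rw [Int.gcd_natCast_natCast, hcop] at hb
  set A := Int.gcdA (p ^ k : ℕ) r
  set B := Int.gcdB (p ^ k : ℕ) r
  refine ⟨x ^ ((r : ℤ) * B), x ^ (((p ^ k : ℕ) : ℤ) * A), zpow_mem (mem_zpowers x) _,
    zpow_mem (mem_zpowers x) _, ?_, ⟨k, ?_⟩, ?_⟩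
  · rw [← zpow_add, add_comm, ← hb]; simp
  · rw [← zpow_natCast, ← zpow_mul]
    have : (r : ℤ) * B * ((p ^ k : ℕ) : ℤ) = ((orderOf x : ℕ) : ℤ) * B := by
      rw [hxr]; push_cast; ring
    rw [this, zpow_mul, zpow_natCast, pow_orderOf_eq_one, one_zpow]
  · have h1 : (x ^ (((p ^ k : ℕ) : ℤ) * A)) ^ r = 1 := by
      rw [← zpow_natCast, ← zpow_mul]
      have : ((p ^ k : ℕ) : ℤ) * A * (r : ℤ) = ((orderOf x : ℕ) : ℤ) * A := by
        rw [hxr]; push_cast; ring
      rw [this, zpow_mul, zpow_natCast, pow_orderOf_eq_one, one_zpow]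
    exact Nat.Coprime.coprime_dvd_left (orderOf_dvd_of_pow_eq_one h1)
      ((Nat.Prime.coprime_iff_not_dvd Fact.out).2 hr).symm

/-- a Sylow subgroup of a core-free nilpotent maximal subgroup is a Sylow subgroup of the group -/
theorem exists_sylow_of_nilMax {G : Type*} [Group G] [Finite G] (M : Subgroup G) (hmax : IsCoatom M)
    (hcore : M.normalCore = ⊥) (hnil : Group.IsNilpotent M) (p : ℕ) [Fact p.Prime]
    (hp : p ∣ Nat.card M) :
    ∃ (P : Sylow p G) (S : Sylow p M), (P : Subgroup G) = (S : Subgroup M).map M.subtype ∧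
      (P : Subgroup G) ≤ M ∧ (P : Subgroup G) ≠ ⊥ ∧ M ≤ normalizer ((P : Subgroup G) : Set G) ∧
      ∀ Y : Subgroup G, Y ≤ M → IsPGroup p Y → Y ≤ P := by
  obtain ⟨S⟩ : Nonempty (Sylow p M) := inferInstance
  have hSn : (S : Subgroup M).Normal := inferInstance
  set P₀ : Subgroup G := (S : Subgroup M).map M.subtype with hP₀
  have hP₀M : P₀ ≤ M := Subgroup.map_subtype_le _
  have hP₀p : IsPGroup p P₀ := S.isPGroup'.map _
  have hsub : P₀.subgroupOf M = S := Subgroup.comap_map_eq_self_of_injective M.subtype_injective _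
  have hP₀ne : P₀ ≠ ⊥ := by
    intro h
    have h1 : (S : Subgroup M) = ⊥ := by
      rw [← hsub, h]; simp
    exact S.ne_bot_of_dvd_card hp h1
  have hMP₀ : M ≤ normalizer (P₀ : Set G) := by
    rw [← Subgroup.normal_subgroupOf_iff_le_normalizer hP₀M, hsub]; exact hSn
  have hN := normalizer_eq_of_coatom M hmax hcore P₀ hP₀M hP₀ne hMP₀
  have hall : ∀ Y : Subgroup G, Y ≤ M → IsPGroup p Y → Y ≤ P₀ := by
    intro Y hYM hY
    have hY' : IsPGroup p (Y.subgroupOf M) := hY.comap_of_injective M.subtype M.subtype_injective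
    obtain ⟨S', hS'⟩ := hY'.exists_le_sylow
    have := Sylow.unique_of_normal S hSn
    have hSS : S' = S := Subsingleton.elim _ _
    rw [hSS] at hS'
    intro y hy
    exact ⟨⟨y, hYM hy⟩, hS' (by exact hy), rfl⟩
  obtain ⟨P, hP⟩ := hP₀p.exists_le_sylow
  have hPP₀ : (P : Subgroup G) = P₀ := by
    by_contra hne
    have hlt : P₀ < P := lt_of_le_of_ne hP (Ne.symm hne)
    obtain ⟨x, hxP, hxN, hx⟩ := exists_normalizer_notMem (P : Subgroup G) P.isPGroup' P₀ hlt
    rw [hN] at hxN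
    apply hx
    have h1 : zpowers x ≤ P₀ := by
      apply hall _ (by rw [zpowers_le]; exact hxN)
      exact P.isPGroup'.to_le (by rw [zpowers_le]; exact hxP)
    exact h1 (mem_zpowers x)
  refine ⟨P, S, hPP₀, ?_, ?_, ?_, ?_⟩
  · rw [hPP₀]; exact hP₀M
  · rw [hPP₀]; exact hP₀ne
  · rw [hPP₀]; exact hMP₀
  · rw [hPP₀]; exact hall

/-- decomposition of the elements of a nilpotent subgroup relative to its Sylow subgroup -/
theorem exists_decomp_nil {G : Type*} [Group G] [Finite G] (M : Subgroup G)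
    (hnil : Group.IsNilpotent M) (p : ℕ) [Fact p.Prime] (P : Subgroup G) (hPp : IsPGroup p P)
    (hall : ∀ Y : Subgroup G, Y ≤ M → IsPGroup p Y → Y ≤ P) (x : G) (hx : x ∈ M) :
    ∃ u ∈ P, ∃ c ∈ M, (∀ w ∈ P, w ∈ M → c * w = w * c) ∧ x = u * c := by
  obtain ⟨u, c, hu, hc, hxuc, ⟨k, hk⟩, hco⟩ := exists_p_decomp p x
  have hzM : zpowers x ≤ M := by rw [zpowers_le]; exact hx
  refine ⟨u, ?_, c, hzM hc, ?_, hxuc⟩
  · have h1 : zpowers u ≤ P := by
      apply hall _ (by rw [zpowers_le]; exact hzM hu)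
      rw [IsPGroup.iff_orderOf]
      rintro ⟨y, hy⟩
      obtain ⟨j, rfl⟩ := mem_zpowers_iff.mp hy
      have h2 : (u ^ j) ^ (p ^ k) = 1 := by
        rw [← zpow_natCast, ← zpow_mul, mul_comm, zpow_mul, zpow_natCast, hk, one_zpow]
      obtain ⟨i, -, hi⟩ := (Nat.dvd_prime_pow Fact.out).mp (orderOf_dvd_of_pow_eq_one h2)
      exact ⟨i, by rw [Subgroup.orderOf_mk]; exact hi⟩
    exact h1 (mem_zpowers u)
  · intro w hw hwM
    obtain ⟨j, hj⟩ := (IsPGroup.iff_orderOf.mp hPp) ⟨w, hw⟩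
    rw [Subgroup.orderOf_mk] at hj
    apply Cfsg.Agent.Lib.Helper74.commute_of_mem_isNilpotent hnil (hzM hc) hwM
    rw [hj]
    exact Nat.Coprime.pow_right j hco

/-- the data of the `2`-part of the argument -/
structure NM2 {G : Type*} [Group G] (M P : Subgroup G) : Prop where
  hPM : P ≤ M
  comm_mem : ∀ x ∈ M, ∀ w ∈ P, ⁅x, w⁆ ∈ ZZ P
  central : ∀ z ∈ ZZ P, ∀ x ∈ M, z * x = x * z

theorem NM2.mk' {G : Type*} [Group G] [Finite G] (M : Subgroup G)
    (hnil : Group.IsNilpotent M) (p : ℕ) [Fact p.Prime] (P : Subgroup G) (hPp : IsPGroup p P)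
    (hPM : P ≤ M) (hall : ∀ Y : Subgroup G, Y ≤ M → IsPGroup p Y → Y ≤ P)
    (hcl : ∀ a ∈ P, ∀ b ∈ P, ∀ w ∈ P, ⁅⁅a, b⁆, w⁆ = 1) : NM2 M P := by
  refine ⟨hPM, ?_, ?_⟩
  · intro x hx w hw
    obtain ⟨u, hu, c, hc, hcw, rfl⟩ := exists_decomp_nil M hnil p P hPp hall x hx
    have h1 : ⁅u * c, w⁆ = ⁅u, w⁆ := by
      rw [commutatorElement_def, commutatorElement_def]
      calc u * c * w * (u * c)⁻¹ * w⁻¹ = u * (c * w) * c⁻¹ * u⁻¹ * w⁻¹ := by group
        _ = u * (w * c) * c⁻¹ * u⁻¹ * w⁻¹ := by rw [hcw w hw (hPM hw)]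
        _ = u * w * u⁻¹ * w⁻¹ := by group
    rw [h1]
    refine Subgroup.mem_inf.mpr ⟨?_, ?_⟩
    · rw [commutatorElement_def]
      exact mul_mem (mul_mem (mul_mem hu hw) (inv_mem hu)) (inv_mem hw)
    · rw [Subgroup.mem_centralizer_iff]
      intro y hy
      have h2 := hcl u hu w hw y hy
      rw [commutatorElement_eq_one_iff_mul_comm] at h2
      exact h2.symm
  · intro z hz x hx
    obtain ⟨u, hu, c, hc, hcw, rfl⟩ := exists_decomp_nil M hnil p P hPp hall x hx
    obtain ⟨hzP, hzC⟩ := Subgroup.mem_inf.mp hz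
    have h1 : u * z = z * u := (Subgroup.mem_centralizer_iff.mp hzC) u hu
    have h2 := hcw z hzP (hPM hzP)
    calc z * (u * c) = (z * u) * c := by group
      _ = (u * z) * c := by rw [h1]
      _ = u * (z * c) := by group
      _ = u * (c * z) := by rw [h2]
      _ = u * c * z := by group

theorem NM2.le_normalizer {G : Type*} [Group G] [Finite G] {M P : Subgroup G} (h : NM2 M P)
    (Y : Subgroup G) (hY : Y ≤ P) : M ≤ normalizer ((ZZ P ⊔ Y : Subgroup G) : Set G) := by
  intro x hx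
  apply Cfsg.Agent.Lib.Helper11.mem_normalizer_of_conj_mem
  have h1 : (ZZ P ⊔ Y).map (cjh x) ≤ ZZ P ⊔ Y := by
    rw [Subgroup.map_sup]
    apply sup_le
    · rintro _ ⟨z, hz, rfl⟩
      apply Subgroup.mem_sup_left
      have : cjh x z = z := by
        change x * z * x⁻¹ = z
        rw [← h.central z hz x hx]; group
      rw [this]; exact hz
    · rintro _ ⟨y, hy, rfl⟩
      have : cjh x y = ⁅x, y⁆ * y := by
        change x * y * x⁻¹ = _
        rw [commutatorElement_def]; group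
      rw [this]
      exact mul_mem (Subgroup.mem_sup_left (h.comm_mem x hx y (hY hy))) (Subgroup.mem_sup_right hy)
  intro d hd
  exact h1 ⟨d, hd, rfl⟩

/-- weak closure of the centre -/
theorem NM2.mem_of_map_le {G : Type*} [Group G] [Finite G] {M P : Subgroup G} (h : NM2 M P)
    (hmax : IsCoatom M) (hcore : M.normalCore = ⊥) (p : ℕ) [Fact p.Prime] (hPp : IsPGroup p P)
    (hP : P ≠ ⊥) (hall : ∀ Y : Subgroup G, Y ≤ M → IsPGroup p Y → Y ≤ P)
    (g : G) (hg : (ZZ P).map (cjh g) ≤ P) : g ∈ M := by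
  set Z := ZZ P with hZ
  have hZne : Z ≠ ⊥ := ZZ_ne_bot hPp hP
  have hZP : Z ≤ P := ZZ_le P
  have hZp : IsPGroup p Z := hPp.to_le hZP
  have hMne : M ≠ ⊥ := by
    rintro rfl
    exact hP (le_bot_iff.mp h.hPM)
  have hNM : normalizer (M : Set G) = M :=
    normalizer_eq_of_coatom M hmax hcore M le_rfl hMne Subgroup.le_normalizer
  have hNZ : normalizer (Z : Set G) = M := by
    apply normalizer_eq_of_coatom M hmax hcore Z (hZP.trans h.hPM) hZne
    have := h.le_normalizer ⊥ bot_le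
    rwa [sup_bot_eq] at this
  -- the inverse conjugate also lies in `P`
  have h1 : Z.map (cjh g⁻¹) ≤ M := by
    rintro _ ⟨z, hz, rfl⟩
    rw [← hNZ]
    apply centralizer_le_normalizer
    rw [Subgroup.mem_centralizer_iff]
    intro w hw
    have hw' : g * w * g⁻¹ ∈ P := hg ⟨w, hw, rfl⟩
    have hzC := (Subgroup.mem_inf.mp hz).2
    have h2 : g * w * g⁻¹ * z = z * (g * w * g⁻¹) := (Subgroup.mem_centralizer_iff.mp hzC) _ hw'
    change w * (g⁻¹ * z * g⁻¹⁻¹) = g⁻¹ * z * g⁻¹⁻¹ * w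
    calc w * (g⁻¹ * z * g⁻¹⁻¹) = g⁻¹ * (g * w * g⁻¹ * z) * g := by group
      _ = g⁻¹ * (z * (g * w * g⁻¹)) * g := by rw [h2]
      _ = g⁻¹ * z * g⁻¹⁻¹ * w := by group
  have h2 : Z.map (cjh g⁻¹) ≤ P := hall _ h1 (hZp.map _)
  have hB' : normalizer ((Z ⊔ Z.map (cjh g⁻¹) : Subgroup G) : Set G) = M := by
    apply normalizer_eq_of_coatom M hmax hcore _ (sup_le (hZP.trans h.hPM) h1)
    · intro hb
      exact hZne (le_bot_iff.mp (hb ▸ le_sup_left))
    · exact h.le_normalizer _ h2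
  have hB : normalizer ((Z ⊔ Z.map (cjh g) : Subgroup G) : Set G) = M := by
    apply normalizer_eq_of_coatom M hmax hcore _ (sup_le (hZP.trans h.hPM) (hg.trans h.hPM))
    · intro hb
      exact hZne (le_bot_iff.mp (hb ▸ le_sup_left))
    · exact h.le_normalizer _ hg
  have hBB : (Z ⊔ Z.map (cjh g⁻¹)).map (cjh g) = Z ⊔ Z.map (cjh g) := by
    rw [Subgroup.map_sup, Subgroup.map_map, sup_comm]
    congr 1
    have : (cjh g).comp (cjh g⁻¹) = MonoidHom.id G := by
      ext y
      change g * (g⁻¹ * y * g⁻¹⁻¹) * g⁻¹ = y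
      group
    rw [this, Subgroup.map_id]
  rw [← hNM]
  apply Cfsg.Agent.Lib.Helper11.mem_normalizer_of_conj_mem
  intro x hx
  rw [← hB, ← hBB]
  rw [← hB'] at hx
  apply Cfsg.Agent.Lib.Helper11.mem_normalizer_of_conj_mem
  rintro _ ⟨b, hb, rfl⟩
  refine ⟨x * b * x⁻¹, ((Subgroup.mem_normalizer_iff.mp hx) b).mp hb, ?_⟩
  change g * (x * b * x⁻¹) * g⁻¹ = g * x * g⁻¹ * (g * b * g⁻¹) * (g * x * g⁻¹)⁻¹
  group

theorem map_cjh_eq_of_mem_normalizer {G : Type*} [Group G] {P : Subgroup G} {x : G}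
    (hx : x ∈ normalizer (P : Set G)) : P.map (cjh x) = P :=
  Cfsg.Agent.Lib.Helper1.mem_normalizer_iff_conj_smul.mp hx

theorem mem_normalizer_of_map_cjh_eq {G : Type*} [Group G] {P : Subgroup G} {x : G}
    (hx : P.map (cjh x) = P) : x ∈ normalizer (P : Set G) :=
  Cfsg.Agent.Lib.Helper1.mem_normalizer_iff_conj_smul.mpr hx

theorem cjh_injective {G : Type*} [Group G] (x : G) : Function.Injective (cjh x) :=
  (MulAut.conj x).injective

/-- normal `p`-complement when the Sylow `p`-subgroup of `M` has class at most two -/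
theorem hnpc_class_two_of_nilMax {G : Type*} [Group G] [Finite G] (M : Subgroup G)
    (hmax : IsCoatom M) (hcore : M.normalCore = ⊥) (hnil : Group.IsNilpotent M) (p : ℕ)
    [Fact p.Prime] (hp : p ∣ Nat.card M)
    (hcl : ∀ P : Subgroup G, P ≤ M → IsPGroup p P → ∀ a ∈ P, ∀ b ∈ P, ∀ w ∈ P, ⁅⁅a, b⁆, w⁆ = 1) :
    Cfsg.HasNormalPComplement p G := by
  obtain ⟨P, S, hPS, hPM, hPne, hMP, hall⟩ := exists_sylow_of_nilMax M hmax hcore hnil p hp
  have h : NM2 M P := NM2.mk' M hnil p P P.isPGroup' hPM hall (hcl P hPM P.isPGroup')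
  have hNZ : normalizer ((ZZ (P : Subgroup G) : Subgroup G) : Set G) = M := by
    apply normalizer_eq_of_coatom M hmax hcore _ ((ZZ_le _).trans hPM) (ZZ_ne_bot P.isPGroup' hPne)
    have := h.le_normalizer ⊥ bot_le
    rwa [sup_bot_eq] at this
  rw [Cfsg.Agent.Lib.Helper2.hasNormalPComplement_iff_inf_pResidual P]
  have hn : ∀ Q : Sylow p G, (P : Subgroup G) ⊓ Subgroup.centralizer (P : Set G) ≤ (Q : Subgroup G) →
      (Q : Subgroup G) ⊓ Subgroup.centralizer (Q : Set G)
        = (P : Subgroup G) ⊓ Subgroup.centralizer (P : Set G) := by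
    intro Q hQ
    obtain ⟨g, hg⟩ := MulAction.exists_smul_eq G P Q
    have hQ' : (Q : Subgroup G) = (P : Subgroup G).map (cjh g) := by rw [← hg]; rfl
    have h1 : (ZZ (P : Subgroup G)).map (cjh g⁻¹) ≤ P := by
      rintro _ ⟨z, hz, rfl⟩
      have h2 := hQ hz
      rw [hQ'] at h2
      obtain ⟨y, hy, hyz⟩ := h2
      have h3 : g * y * g⁻¹ = z := hyz
      change g⁻¹ * z * g⁻¹⁻¹ ∈ (P : Subgroup G)
      rw [← h3]
      have : g⁻¹ * (g * y * g⁻¹) * g⁻¹⁻¹ = y := by group
      rw [this]; exact hy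
    have hgM : g⁻¹ ∈ M := h.mem_of_map_le hmax hcore p P.isPGroup' hPne hall g⁻¹ h1
    have hgM' : g ∈ M := by simpa using inv_mem hgM
    have hQP : (Q : Subgroup G) = P := by
      rw [hQ']; exact map_cjh_eq_of_mem_normalizer (hMP hgM')
    have hQP' : Q = P := Sylow.ext hQP
    rw [hQP']
  rw [Cfsg.Agent.S0078.result P hn M (le_of_eq hNZ), hPS,
    ← Subgroup.map_inf _ _ _ M.subtype_injective,
    (Cfsg.Agent.Lib.Helper2.hasNormalPComplement_iff_inf_pResidual S).mp
      (Cfsg.Agent.Lib.Helper13.hnpc_of_nilpotent hnil p), Subgroup.map_bot]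

/-- normal `p`-complement for odd `p` (Thompson) -/
theorem npc_odd_of_nilMax {G : Type*} [Group G] [Finite G] (M : Subgroup G)
    (hmax : IsCoatom M) (hcore : M.normalCore = ⊥) (hnil : Group.IsNilpotent M) (p : ℕ)
    [Fact p.Prime] (hp : p ∣ Nat.card M) (hp2 : p ≠ 2) : NPC p G := by
  obtain ⟨P, S, hPS, hPM, hPne, hMP, hall⟩ := exists_sylow_of_nilMax M hmax hcore hnil p hp
  apply npc_of_npc_JJ_ZZ hp2 (e := 0) (Or.inl rfl) P
  · have h1 : normalizer ((JJ 0 (P : Subgroup G) : Subgroup G) : Set G) = M := by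
      apply normalizer_eq_of_coatom M hmax hcore _ ((JJ_le 0 _).trans hPM)
        (JJ_ne_bot (Or.inl rfl) P.isPGroup' hPne)
      intro x hx
      apply mem_normalizer_of_map_cjh_eq
      rw [← JJ_map (cjh x) (cjh_injective x).injOn, map_cjh_eq_of_mem_normalizer (hMP hx)]
    rw [h1]
    exact Cfsg.Agent.Lib.Helper74.npc_of_isNilpotent
  · have h1 : normalizer ((ZZ (P : Subgroup G) : Subgroup G) : Set G) = M := by
      apply normalizer_eq_of_coatom M hmax hcore _ ((ZZ_le _).trans hPM)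
        (ZZ_ne_bot P.isPGroup' hPne)
      intro x hx
      apply mem_normalizer_of_map_cjh_eq
      rw [← ZZ_map (cjh x) (cjh_injective x).injOn, map_cjh_eq_of_mem_normalizer (hMP hx)]
    have h2 : centralizer ((ZZ (P : Subgroup G) : Subgroup G) : Set G) ≤ M := by
      rw [← h1]; exact centralizer_le_normalizer _
    have : Group.IsNilpotent (centralizer ((ZZ (P : Subgroup G) : Subgroup G) : Set G)) :=
      Cfsg.Agent.Lib.Helper74.isNilpotent_of_le h2 hnil
    exact Cfsg.Agent.Lib.Helper74.npc_of_isNilpotent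

/-- a product of a solvable subgroup with a solvable normal subgroup -/
theorem isSolvable_of_sup_eq_top {G : Type*} [Group G] (M Q : Subgroup G) [Q.Normal]
    (hM : Group.IsSolvable M) (hQ : Group.IsSolvable Q) (h : M ⊔ Q = ⊤) : Group.IsSolvable G := by
  have hq : Group.IsSolvable (G ⧸ Q) := by
    apply Group.isSolvable_of_surjective (f := (QuotientGroup.mk' Q).comp M.subtype)
    intro y
    obtain ⟨x, rfl⟩ := QuotientGroup.mk'_surjective Q y
    have hx : x ∈ M ⊔ Q := by rw [h]; trivial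
    obtain ⟨m, hm, q, hq, rfl⟩ := Subgroup.mem_sup_of_normal_right.mp hx
    refine ⟨⟨m, hm⟩, ?_⟩
    change QuotientGroup.mk' Q m = QuotientGroup.mk' Q (m * q)
    rw [map_mul]
    have : QuotientGroup.mk' Q q = 1 := (QuotientGroup.eq_one_iff q).mpr hq
    rw [this, mul_one]
  exact Group.isSolvable_of_ker_le_range Q.subtype (QuotientGroup.mk' Q) (by
    rw [QuotientGroup.ker_mk', Subgroup.range_subtype])

theorem isSolvable_of_corefree_nilMax {G : Type*} [Group G] [Finite G] (M : Subgroup G)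
    (hmax : IsCoatom M) (hcore : M.normalCore = ⊥) (hnil : Group.IsNilpotent M)
    (hcl : ∀ P : Subgroup G, P ≤ M → IsPGroup 2 P → ∀ a ∈ P, ∀ b ∈ P, ∀ w ∈ P, ⁅⁅a, b⁆, w⁆ = 1) :
    Group.IsSolvable G := by
  have hnpc : ∀ p : ℕ, [Fact p.Prime] → p ∣ Nat.card M → NPC p G := by
    intro p _ hp
    by_cases hp2 : p = 2
    · subst hp2
      exact Cfsg.Agent.Lib.Helper74.hasNormalPComplement_iff_npc.mp
        (hnpc_class_two_of_nilMax M hmax hcore hnil 2 hp hcl)
    · exact npc_odd_of_nilMax M hmax hcore hnil p hp hp2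
  set K : Subgroup G :=
    sInf {L | L.Normal ∧ ∃ p k : ℕ, p.Prime ∧ p ∣ Nat.card M ∧ L.index = p ^ k} with hK
  have hKn : K.Normal := by
    refine ⟨fun n hn g => ?_⟩
    rw [hK, Subgroup.mem_sInf] at hn ⊢
    intro L hL
    exact hL.1.conj_mem n (hn L hL) g
  have hKmem : ∀ y : G, (orderOf y).Coprime (Nat.card M) → y ∈ K := by
    intro y hy
    rw [hK, Subgroup.mem_sInf]
    rintro L ⟨hLn, p, k, hp, hpM, hLi⟩
    exact mem_of_coprime_of_index_pow L hLi y (Nat.Coprime.coprime_dvd_right hpM hy)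
  have hKcop : (Nat.card M).Coprime (Nat.card K) := by
    apply Nat.coprime_of_dvd
    intro p hp hpM hpK
    have : Fact p.Prime := ⟨hp⟩
    obtain ⟨L, hLn, hLc, k, hk⟩ := hnpc p hpM
    have hKL : K ≤ L := sInf_le ⟨hLn, p, k, hp, hpM, hk⟩
    have h1 : p ∣ Nat.card L := hpK.trans (Subgroup.card_dvd_of_le hKL)
    have h2 : p ∣ Nat.gcd (Nat.card L) p := Nat.dvd_gcd h1 dvd_rfl
    rw [hLc] at h2
    exact hp.one_lt.ne' (Nat.dvd_one.mp h2)
  have hMs : Group.IsSolvable M := inferInstance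
  by_cases hKb : K = ⊥
  · exfalso
    apply hmax.1
    apply eq_top_of_forall_sylow_le
    intro q _ hq
    by_cases hqM : q ∣ Nat.card M
    · obtain ⟨P, S, hPS, hPM, -⟩ := exists_sylow_of_nilMax M hmax hcore hnil q hqM
      exact ⟨P, hPM⟩
    · obtain ⟨R⟩ : Nonempty (Sylow q G) := inferInstance
      refine ⟨R, fun y hy => ?_⟩
      have h1 : y ∈ K := by
        apply hKmem
        obtain ⟨j, hj⟩ := (IsPGroup.iff_orderOf.mp R.isPGroup') ⟨y, hy⟩
        rw [Subgroup.orderOf_mk] at hj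
        rw [hj]
        exact Nat.Coprime.pow_left j ((Nat.Prime.coprime_iff_not_dvd Fact.out).2 hqM)
      rw [hKb] at h1
      rw [Subgroup.mem_bot.mp h1]
      exact one_mem _
  · have hK1 : Nat.card K ≠ 1 := fun h => hKb (Subgroup.card_eq_one.mp h)
    obtain ⟨q, hq, hqK⟩ := Nat.exists_prime_and_dvd hK1
    have : Fact q.Prime := ⟨hq⟩
    obtain ⟨Q, hQ, hMQ⟩ := Cfsg.Agent.Lib.Helper1.coprime_exists_invariant_sylow M K
      (by rw [Subgroup.normalizer_eq_top_iff.mpr hKn]; exact le_top) hKcop (Or.inl hMs) q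
    have hQne : Q ≠ ⊥ := by
      rintro rfl
      apply hQ.2.2
      rwa [Subgroup.relIndex_bot_left]
    have hQM : ¬ Q ≤ M := by
      intro hle
      have hdisj : Disjoint M K := Subgroup.disjoint_of_coprime_natCard hKcop
      exact hQne (le_bot_iff.mp (hdisj hle hQ.1))
    have htop : M ⊔ Q = ⊤ :=
      hmax.2 _ (lt_of_le_of_ne le_sup_left (fun h => hQM (h ▸ le_sup_right)))
    have hQn : Q.Normal := by
      rw [← Subgroup.normalizer_eq_top_iff, eq_top_iff, ← htop]
      exact sup_le hMQ Subgroup.le_normalizer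
    have hQnil : Group.IsNilpotent Q := hQ.2.1.isNilpotent
    exact isSolvable_of_sup_eq_top M Q hMs inferInstance htop

universe u

theorem isSolvable_of_nilMax_aux (m : ℕ) (hm : Odd m) : ∀ (n : ℕ) (G : Type u) [Group G] [Finite G],
    Nat.card G = n → ∀ M : Subgroup G, IsCoatom M → Group.IsNilpotent M →
    (∀ x ∈ M, ∀ y ∈ M, ∀ z ∈ M, ⁅⁅x ^ m, y ^ m⁆, z ^ m⁆ = 1) → Group.IsSolvable G := by
  intro n
  induction n using Nat.strong_induction_on with
  | _ n ih =>
    intro G _ _ hn M hmax hnil hcl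
    by_cases hcore : M.normalCore = ⊥
    · apply isSolvable_of_corefree_nilMax M hmax hcore hnil
      intro P hPM hP
      have hpow : ∀ a ∈ P, ∃ a' ∈ M, a' ^ m = a := by
        intro a ha
        obtain ⟨j, hj⟩ := (IsPGroup.iff_orderOf.mp hP) ⟨a, ha⟩
        rw [Subgroup.orderOf_mk] at hj
        have hc : m.Coprime (orderOf a) := by
          rw [hj]
          exact Nat.Coprime.pow_right j (Nat.coprime_two_right.mpr hm)
        obtain ⟨t, ht⟩ := exists_pow_eq_self_of_coprime hc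
        exact ⟨a ^ t, pow_mem (hPM ha) t, by rw [← pow_mul, mul_comm, pow_mul]; exact ht⟩
      intro a ha b hb w hw
      obtain ⟨a', ha', rfl⟩ := hpow a ha
      obtain ⟨b', hb', rfl⟩ := hpow b hb
      obtain ⟨w', hw', rfl⟩ := hpow w hw
      exact hcl a' ha' b' hb' w' hw'
    · set N := M.normalCore with hN
      have hNM : N ≤ M := Subgroup.normalCore_le M
      have hNn : N.Normal := inferInstance
      have hlt : Nat.card (G ⧸ N) < n := by
        rw [← hn, ← N.card_mul_index]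
        have h1 : 1 < Nat.card N := by
          have h2 : Nat.card N ≠ 1 := fun h => hcore (Subgroup.card_eq_one.mp h)
          have h3 : 0 < Nat.card N := Nat.card_pos
          omega
        have h4 : 0 < N.index := Nat.pos_of_ne_zero N.index_ne_zero_of_finite
        change N.index < _
        nlinarith
      have hq : Group.IsSolvable (G ⧸ N) := by
        apply ih _ hlt (G ⧸ N) rfl (M.map (QuotientGroup.mk' N))
        · exact Cfsg.Agent.Lib.Helper74.isCoatom_map_of_ker_le _ (QuotientGroup.mk'_surjective N)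
            (by rw [QuotientGroup.ker_mk']; exact hNM) hmax
        · exact Group.nilpotent_of_surjective
            ((QuotientGroup.mk' N).subgroupMap M) ((QuotientGroup.mk' N).subgroupMap_surjective M)
        · rintro _ ⟨x, hx, rfl⟩ _ ⟨y, hy, rfl⟩ _ ⟨z, hz, rfl⟩
          rw [← map_pow, ← map_pow, ← map_pow, ← map_commutatorElement, ← map_commutatorElement,
            hcl x hx y hy z hz, map_one]
      have hNnil : Group.IsNilpotent N := Cfsg.Agent.Lib.Helper74.isNilpotent_of_le hNM hnil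
      have hNs : Group.IsSolvable N := inferInstance
      exact Group.isSolvable_of_ker_le_range N.subtype (QuotientGroup.mk' N) (by
        rw [QuotientGroup.ker_mk', Subgroup.range_subtype])

/-- **Thompson, Deskins, Janko**: a finite group with a nilpotent maximal subgroup whose Sylow
`2`-subgroup has class at most two is solvable (the class condition is phrased with `m`-th powers,
`m` odd). -/
theorem isSolvable_of_nilMax {G : Type u} [Group G] [Finite G] (M : Subgroup G) (hmax : IsCoatom M)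
    (hnil : Group.IsNilpotent M) (m : ℕ) (hm : Odd m)
    (hcl : ∀ x ∈ M, ∀ y ∈ M, ∀ z ∈ M, ⁅⁅x ^ m, y ^ m⁆, z ^ m⁆ = 1) : Group.IsSolvable G :=
  isSolvable_of_nilMax_aux m hm _ G rfl M hmax hnil hcl

end Cfsg.Agent.Lib.Helper71
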