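import Mathlib

set_option autoImplicit false

namespace Cfsg.Agent.Lib.Helper71

open MulAction in
/-- A finite group is not the union of the conjugates of a proper subgroup. -/
theorem eq_top_of_forall_conj_mem {G : Type*} [Group G] [Finite G] (M : Subgroup G)
    (h : ∀ g : G, ∃ a : G, a⁻¹ * g * a ∈ M) : M = ⊤ := by
  classical
  have := Fintype.ofFinite G
  have : Fintype (G ⧸ M) := Fintype.ofFinite _
  have : Fintype (orbitRel.Quotient G (G ⧸ M)) := Fintype.ofFinite _
  have : ∀ g : G, Fintype (fixedBy (G ⧸ M) g) := fun g => Fintype.ofFinite _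
  have hB := sum_card_fixedBy_eq_card_orbits_mul_card_group G (G ⧸ M)
  have hq : Fintype.card (orbitRel.Quotient G (G ⧸ M)) = 1 := by
    have h1 : Subsingleton (orbitRel.Quotient G (G ⧸ M)) :=
      (pretransitive_iff_subsingleton_quotient G (G ⧸ M)).mp inferInstance
    have h2 : Nonempty (orbitRel.Quotient G (G ⧸ M)) := ⟨Quotient.mk'' ((1 : G) : G ⧸ M)⟩
    rw [← Nat.card_eq_fintype_card]
    exact Nat.card_eq_one_iff_unique.mpr ⟨h1, h2⟩
  rw [hq, one_mul] at hB
  have hfix : ∀ g : G, 1 ≤ Fintype.card (fixedBy (G ⧸ M) g) := by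
    intro g
    obtain ⟨a, ha⟩ := h g
    apply Fintype.card_pos_iff.mpr
    refine ⟨⟨(a : G ⧸ M), ?_⟩⟩
    rw [mem_fixedBy, MulAction.Quotient.smul_mk, eq_comm, QuotientGroup.eq, smul_eq_mul, ← mul_assoc]
    exact ha
  have h1 : Fintype.card (fixedBy (G ⧸ M) (1 : G)) = Fintype.card (G ⧸ M) := by
    apply Fintype.card_of_subtype
    intro x
    simp
  rw [← Finset.add_sum_erase _ _ (Finset.mem_univ (1 : G)), h1] at hB
  have h2 : ∑ g ∈ (Finset.univ : Finset G).erase 1, 1 ≤
      ∑ g ∈ (Finset.univ : Finset G).erase 1, Fintype.card (fixedBy (G ⧸ M) g) :=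
    Finset.sum_le_sum fun g _ => hfix g
  simp only [Finset.sum_const, smul_eq_mul, mul_one, Finset.card_erase_of_mem (Finset.mem_univ _),
    Finset.card_univ] at h2
  have h3 : 0 < Fintype.card G := Fintype.card_pos
  have h4 : 0 < Fintype.card (G ⧸ M) := Fintype.card_pos
  have h5 : Fintype.card (G ⧸ M) = 1 := by omega
  rw [← Subgroup.index_eq_one, Subgroup.index, Nat.card_eq_fintype_card, h5]

end Cfsg.Agent.Lib.Helper71
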