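import Mathlib

set_option autoImplicit false

/-! Subgroups isomorphic to the alternating group of degree four in `GL₂(ℤ/2ᵏ)`. -/

namespace Cfsg.Agent.Lib.Helper71.A4GL

open Matrix

/-- coordinates: the relations of a four-group normalized by the standard element of order three -/
theorem coord_lemma {R : Type*} [CommRing R] (u3 : R) (h3 : 3 * u3 = 1) (V : Matrix (Fin 2) (Fin 2) R)
    (hVV : V * V = 1)
    (hrel : V * (!![0, -1; 1, -1] * V * !![-1, 1; -1, 0]) = !![-1, 1; -1, 0] * V * !![0, -1; 1, -1]) :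
    ∃ γ δ : R, 2 * γ = 0 ∧ 2 * δ = 0 ∧ V = !![1 - δ, γ; γ - δ, 1 + δ] := by
  obtain ⟨α, β, γ, δ, rfl⟩ : ∃ α β γ δ : R, V = !![α - δ, γ - β; β + γ - δ, α - β + δ] := by
    refine ⟨u3 * (V 0 0 + 2 * V 1 1 + V 1 0 - V 0 1), u3 * (2 * (V 1 0 - V 0 1) + (V 1 1 - V 0 0)),
      u3 * (V 0 1 + 2 * V 1 0 + V 1 1 - V 0 0), u3 * ((V 1 0 - V 0 1) + 2 * (V 1 1 - V 0 0)), ?_⟩
    ext i j
    fin_cases i <;> fin_cases j <;> simp <;> linear_combination (-(V _ _)) * h3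
  have e11 := congrFun (congrFun hVV 0) 0
  have e12 := congrFun (congrFun hVV 0) 1
  have e21 := congrFun (congrFun hVV 1) 0
  have e22 := congrFun (congrFun hVV 1) 1
  have f11 := congrFun (congrFun hrel 0) 0
  have f12 := congrFun (congrFun hrel 0) 1
  have f21 := congrFun (congrFun hrel 1) 0
  have f22 := congrFun (congrFun hrel 1) 1
  simp [Matrix.mul_apply, Fin.sum_univ_two] at e11 e12 e21 e22 f11 f12 f21 f22
  have A0 : α ^ 2 - β ^ 2 + (γ ^ 2 - γ * δ + δ ^ 2) - 1 = 0 := by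
    linear_combination u3 * (e11 + 2 * e22 + e21 - e12) - (α ^ 2 - β ^ 2 + (γ ^ 2 - γ * δ + δ ^ 2) - 1) * h3
  have A1 : 2 * α * β - β ^ 2 = 0 := by
    linear_combination u3 * (2 * (e21 - e12) + (e22 - e11)) - (2 * α * β - β ^ 2) * h3
  have B0 : (2 * α - β) * γ = 0 := by
    linear_combination u3 * (e12 + 2 * e21 + e22 - e11) - ((2 * α - β) * γ) * h3
  have B1 : (2 * α - β) * δ = 0 := by
    linear_combination u3 * ((e21 - e12) + 2 * (e22 - e11)) - ((2 * α - β) * δ) * h3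
  have C0 : α ^ 2 - β ^ 2 - α = 0 := by
    linear_combination u3 * (f11 + 2 * f22 + f21 - f12) - (α ^ 2 - β ^ 2 - α) * h3
  have C1 : 2 * α * β - β ^ 2 + (γ ^ 2 - γ * δ + δ ^ 2) - β = 0 := by
    linear_combination u3 * (2 * (f21 - f12) + (f22 - f11)) - (2 * α * β - β ^ 2 + (γ ^ 2 - γ * δ + δ ^ 2) - β) * h3
  have hβ : β = 0 := by
    linear_combination (α - β) * ((A0 - C0) - (C1 - A1)) - C0
  have hα : α = 1 := by
    linear_combination (A0 - C0) - (C1 - A1) - hβ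
  subst hβ
  subst hα
  refine ⟨γ, δ, ?_, ?_, ?_⟩
  · linear_combination B0
  · linear_combination B1
  · ext i j
    fin_cases i <;> fin_cases j <;> simp

theorem exists_u3 (k : ℕ) : ∃ u3 : ZMod (2 ^ k), 3 * u3 = 1 := by
  have h : IsUnit ((3 : ℕ) : ZMod (2 ^ k)) := by
    rw [ZMod.isUnit_iff_coprime]
    exact Nat.Coprime.pow_right k (by norm_num)
  obtain ⟨b, hb⟩ := h.exists_right_inv
  exact ⟨b, by simpa using hb⟩

theorem two_torsion (k : ℕ) (hk : 1 ≤ k) :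
    {x : ZMod (2 ^ k) | 2 * x = 0} ⊆ {0, ((2 ^ (k - 1) : ℕ) : ZMod (2 ^ k))} := by
  intro x hx
  have : NeZero (2 ^ k) := ⟨by positivity⟩
  have hx' : 2 * x = 0 := hx
  have h1 : ((2 * x.val : ℕ) : ZMod (2 ^ k)) = 0 := by
    rw [Nat.cast_mul, ZMod.natCast_zmod_val]
    exact_mod_cast hx'
  rw [ZMod.natCast_eq_zero_iff] at h1
  have h2 : 2 ^ k = 2 * 2 ^ (k - 1) := by
    rw [← pow_succ']; congr 1; omega
  have h1' : 2 * 2 ^ (k - 1) ∣ 2 * x.val := h2 ▸ h1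
  have h3 : 2 ^ (k - 1) ∣ x.val := Nat.dvd_of_mul_dvd_mul_left (by norm_num) h1'
  obtain ⟨m, hm⟩ := h3
  have h4 : x.val < 2 ^ k := ZMod.val_lt x
  have h4' : 2 ^ (k - 1) * m < 2 * 2 ^ (k - 1) := by rw [← hm, ← h2]; exact h4
  have h5 : m < 2 := by
    by_contra hcon
    push Not at hcon
    have : 2 ^ (k - 1) * 2 ≤ 2 ^ (k - 1) * m := Nat.mul_le_mul_left _ hcon
    omega
  have h6 : x = ((x.val : ℕ) : ZMod (2 ^ k)) := (ZMod.natCast_zmod_val x).symm
  interval_cases m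
  · left
    rw [h6, hm]; simp
  · right
    rw [h6, hm]; simp

/-- the standard element of order three -/
def t0 (R : Type*) [CommRing R] : GL (Fin 2) R :=
  ⟨!![0, -1; 1, -1], !![-1, 1; -1, 0], by
    ext i j; fin_cases i <;> fin_cases j <;> simp [Matrix.mul_apply, Fin.sum_univ_two], by
    ext i j; fin_cases i <;> fin_cases j <;> simp [Matrix.mul_apply, Fin.sum_univ_two]⟩

theorem t0_val (R : Type*) [CommRing R] : ((t0 R : GL (Fin 2) R) : Matrix (Fin 2) (Fin 2) R) = !![0, -1; 1, -1] := rfl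

theorem t0_inv_val (R : Type*) [CommRing R] :
    (((t0 R)⁻¹ : GL (Fin 2) R) : Matrix (Fin 2) (Fin 2) R) = !![-1, 1; -1, 0] := rfl

theorem t0_pow (R : Type*) [CommRing R] : (t0 R) ^ 3 = 1 := by
  apply Units.ext
  rw [Units.val_pow_eq_pow_val, t0_val]
  ext i j
  fin_cases i <;> fin_cases j <;> simp [pow_succ, Matrix.mul_apply, Fin.sum_univ_two]

theorem t0_ne_one (R : Type*) [CommRing R] [Nontrivial R] : t0 R ≠ 1 := by
  intro h
  have h1 := congrArg (fun g : GL (Fin 2) R => (g : Matrix (Fin 2) (Fin 2) R) 0 0) h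
  simp [t0_val] at h1

/-- the four candidates -/
def W0 (R : Type*) [CommRing R] : Set (GL (Fin 2) R) :=
  {g | ∃ γ δ : R, 2 * γ = 0 ∧ 2 * δ = 0 ∧ (g : Matrix (Fin 2) (Fin 2) R) = !![1 - δ, γ; γ - δ, 1 + δ]}

theorem ncard_W0_le (k : ℕ) (hk : 1 ≤ k) : (W0 (ZMod (2 ^ k))).ncard ≤ 4 := by
  have : NeZero (2 ^ k) := ⟨by positivity⟩
  set Z2 : Set (ZMod (2 ^ k)) := {x | 2 * x = 0} with hZ2
  have hZ : Z2.ncard ≤ 2 := by
    refine (Set.ncard_le_ncard (two_torsion k hk) (Set.toFinite _)).trans ?_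
    refine (Set.ncard_insert_le _ _).trans ?_
    rw [Set.ncard_singleton]
  have h1 : (W0 (ZMod (2 ^ k))).ncard ≤ (Z2 ×ˢ Z2).ncard := by
    refine Set.ncard_le_ncard_of_injOn
      (fun g : GL (Fin 2) (ZMod (2 ^ k)) => ((g : Matrix (Fin 2) (Fin 2) (ZMod (2 ^ k))) 0 1,
        (g : Matrix (Fin 2) (Fin 2) (ZMod (2 ^ k))) 1 1 - 1)) ?_ ?_ (Set.toFinite _)
    · rintro g ⟨γ, δ, hγ, hδ, hg⟩
      simp only [hg]
      refine ⟨?_, ?_⟩
      · show 2 * _ = 0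
        simpa using hγ
      · show 2 * _ = 0
        simpa using hδ
    · rintro g ⟨γ, δ, hγ, hδ, hg⟩ g' ⟨γ', δ', hγ', hδ', hg'⟩ heq
      simp only [hg, hg'] at heq
      simp at heq
      obtain ⟨rfl, rfl⟩ := heq
      apply Units.ext
      rw [hg, hg']
  rw [Set.ncard_prod] at h1
  nlinarith

theorem sq_step {R : Type*} [CommRing R] (j : ℕ) (hj : 1 ≤ j) (A M : Matrix (Fin 2) (Fin 2) R)
    (hA : A = 1 + (2 : R) ^ j • M) : ∃ M', A * A = 1 + (2 : R) ^ (j + 1) • M' := by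
  refine ⟨M + (2 : R) ^ (j - 1) • (M * M), ?_⟩
  subst hA
  have e : (2 : R) ^ j * (2 : R) ^ j = (2 : R) ^ (j + 1) * (2 : R) ^ (j - 1) := by
    rw [← pow_add, ← pow_add]; congr 1; omega
  rw [mul_add, add_mul, add_mul, one_mul, one_mul, mul_one, smul_mul_smul_comm, e, smul_add, smul_smul,
    pow_succ, mul_comm ((2 : R) ^ j) 2, mul_smul 2, two_smul]
  abel

theorem pow_step {R : Type*} [CommRing R] (A M : Matrix (Fin 2) (Fin 2) R)
    (hA : A = 1 + (2 : R) • M) (i : ℕ) : ∃ M', A ^ (2 ^ i) = 1 + (2 : R) ^ (i + 1) • M' := by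
  induction i with
  | zero => exact ⟨M, by simpa using hA⟩
  | succ i ih =>
    obtain ⟨M', hM'⟩ := ih
    obtain ⟨M'', hM''⟩ := sq_step (i + 1) (by omega) _ M' hM'
    refine ⟨M'', ?_⟩
    rw [pow_succ, pow_mul, pow_two, hM'']

/-- reduction modulo two -/
noncomputable def red (k : ℕ) (hk : 1 ≤ k) : GL (Fin 2) (ZMod (2 ^ k)) →* GL (Fin 2) (ZMod 2) :=
  Matrix.GeneralLinearGroup.map (ZMod.castHom (dvd_pow_self 2 (by omega : k ≠ 0)) (ZMod 2))

theorem even_of_cast (k : ℕ) (hk : 1 ≤ k) (x : ZMod (2 ^ k))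
    (hx : ZMod.castHom (dvd_pow_self 2 (by omega : k ≠ 0)) (ZMod 2) x = 0) : ∃ m, x = 2 * m := by
  have : NeZero (2 ^ k) := ⟨by positivity⟩
  have h6 : x = ((x.val : ℕ) : ZMod (2 ^ k)) := (ZMod.natCast_zmod_val x).symm
  rw [h6, map_natCast, ZMod.natCast_eq_zero_iff] at hx
  obtain ⟨m, hm⟩ := hx
  refine ⟨(m : ZMod (2 ^ k)), ?_⟩
  rw [h6, hm]; push_cast; ring

theorem ker_red_isPGroup (k : ℕ) (hk : 1 ≤ k) : IsPGroup 2 (red k hk).ker := by
  rintro ⟨g, hg⟩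
  refine ⟨k - 1, Subtype.ext ?_⟩
  have hg1 : red k hk g = 1 := hg
  have hent : ∀ i j, ∃ m, (g : Matrix (Fin 2) (Fin 2) (ZMod (2 ^ k))) i j - (1 : Matrix (Fin 2) (Fin 2) (ZMod (2 ^ k))) i j = 2 * m := by
    intro i j
    apply even_of_cast k hk
    have h1 := congrArg (fun u : GL (Fin 2) (ZMod 2) => (u : Matrix (Fin 2) (Fin 2) (ZMod 2)) i j) hg1
    simp only [red, Matrix.GeneralLinearGroup.map_apply, Units.val_one] at h1
    rw [map_sub, h1]
    by_cases hij : i = j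
    · subst hij
      rw [Matrix.one_apply_eq, Matrix.one_apply_eq, map_one, sub_self]
    · rw [Matrix.one_apply_ne hij, Matrix.one_apply_ne hij, map_zero, sub_self]
  choose M hM using hent
  have hA : (g : Matrix (Fin 2) (Fin 2) (ZMod (2 ^ k))) = 1 + (2 : ZMod (2 ^ k)) • (Matrix.of M) := by
    ext i j
    have := hM i j
    simp only [Matrix.add_apply, Matrix.smul_apply, Matrix.of_apply, smul_eq_mul]
    linear_combination this
  obtain ⟨M', hM'⟩ := pow_step _ _ hA (k - 1)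
  have h0 : (2 : ZMod (2 ^ k)) ^ (k - 1 + 1) = 0 := by
    have : k - 1 + 1 = k := by omega
    rw [this]
    have := ZMod.natCast_self (2 ^ k)
    exact_mod_cast this
  rw [h0, zero_smul, add_zero] at hM'
  apply Units.ext
  show ((g ^ 2 ^ (k - 1) : GL (Fin 2) (ZMod (2 ^ k))) : Matrix (Fin 2) (Fin 2) (ZMod (2 ^ k))) = 1
  rw [Units.val_pow_eq_pow_val, hM']

theorem not_nine_dvd (k : ℕ) (hk : 1 ≤ k) : ¬ 9 ∣ Nat.card (GL (Fin 2) (ZMod (2 ^ k))) := by
  have : NeZero (2 ^ k) := ⟨by positivity⟩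
  have : Fact (Nat.Prime 2) := ⟨Nat.prime_two⟩
  intro h9
  obtain ⟨m, hm⟩ := IsPGroup.iff_card.1 (ker_red_isPGroup k hk)
  have h1 := Subgroup.card_mul_index (red k hk).ker
  rw [Subgroup.index_ker, hm] at h1
  have h2 : Nat.card (red k hk).range ∣ 6 := by
    have h3 : Nat.card (GL (Fin 2) (ZMod 2)) = 6 := by
      rw [Matrix.card_GL_field]
      simp [Fin.prod_univ_two]
    rw [← h3]
    exact Subgroup.card_subgroup_dvd_card _
  obtain ⟨c, hc⟩ := h2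
  have h4 : 9 ∣ 2 ^ m * 6 := by
    rw [hc, ← mul_assoc, h1]
    exact Dvd.dvd.mul_right h9 c
  have h5 : 9 ∣ 2 ^ (m + 1) * 3 := by
    have : 2 ^ (m + 1) * 3 = 2 ^ m * 6 := by ring
    rw [this]; exact h4
  have h6 : 3 ∣ 2 ^ (m + 1) := by
    have : 3 * 3 ∣ 2 ^ (m + 1) * 3 := h5
    exact Nat.dvd_of_mul_dvd_mul_right (by norm_num) this
  have h7 := Nat.Prime.dvd_of_dvd_pow Nat.prime_three h6
  omega

abbrev A4 : Type := alternatingGroup (Fin 4)

theorem a4_exists : ∃ t : A4, t ≠ 1 ∧ t ^ 3 = 1 := by decide +kernel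

theorem a4_decomp : ∀ t : A4, t ≠ 1 → t ^ 3 = 1 → ∀ h : A4, ∃ v : A4, v * v = 1 ∧
    (h = v ∨ h = v * t ∨ h = v * t * t) := by decide +kernel

theorem a4_rel : ∀ t v : A4, t ≠ 1 → t ^ 3 = 1 → v * v = 1 →
    v * (t * v * t⁻¹) = t⁻¹ * v * t := by decide +kernel

theorem a4_card : (Finset.univ.filter (fun v : A4 => v * v = 1)).card = 4 := by decide +kernel

theorem image_eq_W0 (k : ℕ) (hk : 1 ≤ k) (φ : A4 →* GL (Fin 2) (ZMod (2 ^ k)))
    (hφ : Function.Injective φ) (t : A4) (ht : φ t = t0 (ZMod (2 ^ k))) :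
    φ '' {v : A4 | v * v = 1} = W0 (ZMod (2 ^ k)) := by
  have : NeZero (2 ^ k) := ⟨by positivity⟩
  have hnt : Nontrivial (ZMod (2 ^ k)) := by
    apply ZMod.nontrivial_iff.2
    have : 2 ^ 1 ≤ 2 ^ k := Nat.pow_le_pow_right (by norm_num) hk
    omega
  have ht1 : t ≠ 1 := by
    rintro rfl
    rw [map_one] at ht
    exact t0_ne_one _ ht.symm
  have ht3 : t ^ 3 = 1 := by
    apply hφ
    rw [map_pow, ht, t0_pow, map_one]
  obtain ⟨u3, h3⟩ := exists_u3 k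
  apply Set.eq_of_subset_of_ncard_le
  · rintro _ ⟨v, hv, rfl⟩
    have hv' : v * v = 1 := hv
    have h1 : φ v * φ v = 1 := by rw [← map_mul, hv', map_one]
    have h2 : φ v * (t0 _ * φ v * (t0 _)⁻¹) = (t0 _)⁻¹ * φ v * t0 _ := by
      rw [← ht, ← map_inv, ← map_mul, ← map_mul, ← map_mul, ← map_mul, ← map_mul,
        a4_rel t v ht1 ht3 hv']
    apply coord_lemma u3 h3
    · have := congrArg (fun g : GL (Fin 2) (ZMod (2 ^ k)) => (g : Matrix (Fin 2) (Fin 2) (ZMod (2 ^ k)))) h1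
      simpa using this
    · have := congrArg (fun g : GL (Fin 2) (ZMod (2 ^ k)) => (g : Matrix (Fin 2) (Fin 2) (ZMod (2 ^ k)))) h2
      simp only [Units.val_mul, t0_val, t0_inv_val] at this
      exact this
  · rw [Set.ncard_image_of_injective _ hφ]
    refine (ncard_W0_le k hk).trans ?_
    rw [Set.ncard_eq_toFinset_card']
    have : ({v : A4 | v * v = 1} : Set A4).toFinset = Finset.univ.filter (fun v : A4 => v * v = 1) := by
      ext v; simp
    rw [this, a4_card]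
  · exact Set.toFinite _

theorem range_le_range (k : ℕ) (hk : 1 ≤ k) (φ φ' : A4 →* GL (Fin 2) (ZMod (2 ^ k)))
    (hφ : Function.Injective φ) (hφ' : Function.Injective φ') (t t' : A4)
    (ht : φ t = t0 (ZMod (2 ^ k))) (ht' : φ' t' = t0 (ZMod (2 ^ k))) : φ.range ≤ φ'.range := by
  have hnt : Nontrivial (ZMod (2 ^ k)) := by
    apply ZMod.nontrivial_iff.2
    have : 2 ^ 1 ≤ 2 ^ k := Nat.pow_le_pow_right (by norm_num) hk
    omega
  have ht1 : t ≠ 1 := by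
    rintro rfl
    rw [map_one] at ht
    exact t0_ne_one _ ht.symm
  have ht3 : t ^ 3 = 1 := by
    apply hφ
    rw [map_pow, ht, t0_pow, map_one]
  have h1 := image_eq_W0 k hk φ hφ t ht
  have h2 := image_eq_W0 k hk φ' hφ' t' ht'
  have hv : ∀ v : A4, v * v = 1 → φ v ∈ φ'.range := by
    intro v hv
    have h3 : φ v ∈ φ' '' {v : A4 | v * v = 1} := by
      rw [h2, ← h1]
      exact ⟨v, hv, rfl⟩
    obtain ⟨w, -, hw⟩ := h3
    exact ⟨w, hw⟩
  have ht0 : φ t ∈ φ'.range := ⟨t', by rw [ht', ht]⟩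
  rintro _ ⟨x, rfl⟩
  obtain ⟨v, hvv, h | h | h⟩ := a4_decomp t ht1 ht3 x
  · rw [h]; exact hv v hvv
  · rw [h, map_mul]; exact mul_mem (hv v hvv) ht0
  · rw [h, map_mul, map_mul]; exact mul_mem (mul_mem (hv v hvv) ht0) ht0

theorem exists_conj_t0 (k : ℕ) (hk : 1 ≤ k) (φ : A4 →* GL (Fin 2) (ZMod (2 ^ k)))
    (hφ : Function.Injective φ) :
    ∃ (g : GL (Fin 2) (ZMod (2 ^ k))) (t : A4), g * φ t * g⁻¹ = t0 (ZMod (2 ^ k)) := by
  have : NeZero (2 ^ k) := ⟨by positivity⟩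
  have : Fact (Nat.Prime 3) := ⟨Nat.prime_three⟩
  have hnt : Nontrivial (ZMod (2 ^ k)) := by
    apply ZMod.nontrivial_iff.2
    have : 2 ^ 1 ≤ 2 ^ k := Nat.pow_le_pow_right (by norm_num) hk
    omega
  obtain ⟨t, ht1, ht3⟩ := a4_exists
  have o1 : orderOf (φ t) = 3 := by
    apply orderOf_eq_prime
    · rw [← map_pow, ht3, map_one]
    · intro h
      exact ht1 (hφ (by rw [h, map_one]))
  have o2 : orderOf (t0 (ZMod (2 ^ k))) = 3 := orderOf_eq_prime (t0_pow _) (t0_ne_one _)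
  have hfac : (Nat.card (GL (Fin 2) (ZMod (2 ^ k)))).factorization 3 = 1 := by
    have hne : Nat.card (GL (Fin 2) (ZMod (2 ^ k))) ≠ 0 := Nat.card_pos.ne'
    have h1 : 1 ≤ (Nat.card (GL (Fin 2) (ZMod (2 ^ k)))).factorization 3 := by
      rw [← Nat.Prime.pow_dvd_iff_le_factorization Nat.prime_three hne, pow_one, ← o2]
      exact orderOf_dvd_natCard _
    have h2 : ¬ 2 ≤ (Nat.card (GL (Fin 2) (ZMod (2 ^ k)))).factorization 3 := by
      rw [← Nat.Prime.pow_dvd_iff_le_factorization Nat.prime_three hne]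
      exact not_nine_dvd k hk
    omega
  let P : Sylow 3 (GL (Fin 2) (ZMod (2 ^ k))) := Sylow.ofCard (Subgroup.zpowers (φ t))
    (by rw [Nat.card_zpowers, o1, hfac, pow_one])
  let P0 : Sylow 3 (GL (Fin 2) (ZMod (2 ^ k))) := Sylow.ofCard (Subgroup.zpowers (t0 (ZMod (2 ^ k))))
    (by rw [Nat.card_zpowers, o2, hfac, pow_one])
  obtain ⟨g, hg⟩ := MulAction.exists_smul_eq (GL (Fin 2) (ZMod (2 ^ k))) P P0
  have h1 : t0 (ZMod (2 ^ k)) ∈ ((g • P : Sylow 3 (GL (Fin 2) (ZMod (2 ^ k)))) : Subgroup (GL (Fin 2) (ZMod (2 ^ k)))) := by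
    rw [hg]
    exact Subgroup.mem_zpowers _
  rw [Sylow.smul_def, Sylow.pointwise_smul_def, Subgroup.mem_smul_pointwise_iff_exists] at h1
  obtain ⟨s, hs, hs'⟩ := h1
  obtain ⟨n, rfl⟩ : ∃ n : ℤ, φ t ^ n = s := hs
  refine ⟨g, t ^ n, ?_⟩
  rw [map_zpow]
  exact hs'

end Cfsg.Agent.Lib.Helper71.A4GL
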