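import Mathlib
import Cfsg.Agent.Lib.Helper68.MT4
import Cfsg.Agent.Lib.Helper11.TwoGenAut
import Cfsg.Agent.Lib.Helper11.DihedralSylow

set_option autoImplicit false

namespace Cfsg.Agent.Lib.Helper71

open Subgroup Cfsg.Agent.Lib.Helper68.MT Cfsg.Agent.Lib.Helper77

theorem isCoatom_of_index_two {U : Type*} [Group U] (A : Subgroup U) (hA : A.index = 2) :
    IsCoatom A := by
  constructor
  · intro h
    rw [h, index_top] at hA
    omega
  · intro B hB
    have h1 := Subgroup.relIndex_mul_index hB.le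
    rw [hA] at h1
    have h2 : A.relIndex B ≠ 1 := by
      intro h
      exact hB.not_ge (Subgroup.relIndex_eq_one.1 h)
    have h3 : A.relIndex B ∣ 2 := ⟨_, h1.symm⟩
    rcases (Nat.dvd_prime Nat.prime_two).1 h3 with h | h
    · exact absurd h h2
    · rw [h] at h1
      exact Subgroup.index_eq_one.1 (by omega)

/-- A `2`-group with a cyclic subgroup of index at most two and an automorphism of odd prime order
fixing a nontrivial element has only one involution. -/
theorem unique_invol_of_cyclic_index {U : Type*} [Group U] [Finite U] (hU : IsPGroup 2 U)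
    (A : Subgroup U) [IsCyclic A] (hA : A.index ≤ 2) (δ : MulAut U) {r : ℕ} [Fact r.Prime]
    (hr2 : r ≠ 2) (hδr : δ ^ r = 1) (hδ : δ ≠ 1) (z : U) (hz : z ≠ 1) (hδz : δ z = z) :
    ∀ s t : U, orderOf s = 2 → orderOf t = 2 → s = t := by
  have : Fact (Nat.Prime 2) := ⟨Nat.prime_two⟩
  obtain ⟨x, y, hxy⟩ := Cfsg.Agent.Lib.Helper11.exists_two_gen_of_cyclic_index_le_two A hA
  have h4 : (frattini U).index ≤ 4 := by
    have := card_frattini_quotient_le_of_two_gen hU x y hxy
    rw [Subgroup.index_eq_card]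
    omega
  have hA0 : A.index ≠ 0 := Subgroup.index_ne_zero_of_finite
  have hΦA : frattini U ≤ A := by
    by_cases h1 : A.index = 1
    · rw [Subgroup.index_eq_one.1 h1]; exact le_top
    · exact frattini_le_coatom (isCoatom_of_index_two A (by omega))
  have hzΦ : z ∈ frattini U := by
    by_contra hcon
    apply no_fix hU h4 δ hr2 hδr hδ hcon
    rw [hδz, inv_mul_cancel]
    exact one_mem _
  -- an involution in the Frattini subgroup
  obtain ⟨s0, hs0Φ, hs0⟩ : ∃ s0 ∈ frattini U, orderOf s0 = 2 := by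
    have hnt : Nontrivial (frattini U) := ⟨⟨⟨z, hzΦ⟩, 1, fun h => hz (congrArg Subtype.val h)⟩⟩
    have hp : IsPGroup 2 (frattini U) := hU.to_subgroup _
    obtain ⟨k, hk⟩ := IsPGroup.iff_card.1 hp
    have hk0 : k ≠ 0 := by
      rintro rfl
      have := Finite.one_lt_card_iff_nontrivial.2 hnt
      omega
    have h2 : 2 ∣ Nat.card (frattini U) := by rw [hk]; exact dvd_pow_self 2 hk0
    obtain ⟨s, hs⟩ := exists_prime_orderOf_dvd_card' 2 h2
    exact ⟨s, s.2, by rw [Subgroup.orderOf_coe]; exact hs⟩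
  have hδΦ : ∀ g, g ∉ frattini U → δ g ∉ frattini U := by
    intro g hg h
    apply hg
    have := aut_mem_frattini δ⁻¹ h
    rwa [MulAut.inv_apply_self] at this
  -- the square of the automorphism
  have hδ2r : (δ ^ 2) ^ r = 1 := by rw [← pow_mul, mul_comm, pow_mul, hδr, one_pow]
  have hδ2 : δ ^ 2 ≠ 1 := by
    intro h
    apply hδ
    have h1 : orderOf δ ∣ 2 := orderOf_dvd_of_pow_eq_one h
    have h2 : orderOf δ ∣ r := orderOf_dvd_of_pow_eq_one hδr
    have hc : Nat.Coprime 2 r := (Nat.coprime_primes Nat.prime_two (Fact.out)).2 (Ne.symm hr2)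
    exact orderOf_eq_one_iff.1 (Nat.eq_one_of_dvd_coprimes hc h1 h2)
  have hrel : (frattini U).relIndex A ≤ 2 := by
    by_cases h1 : A.index = 1
    · exfalso
      obtain ⟨c, hc⟩ := IsCyclic.exists_generator (α := A)
      apply not_cyclic_of_aut hU h4 δ hr2 hδr hδ (c : U)
      rw [eq_top_iff]
      intro u _
      have hu : u ∈ A := by rw [Subgroup.index_eq_one.1 h1]; trivial
      obtain ⟨k, hk⟩ := hc ⟨u, hu⟩
      exact ⟨k, congrArg Subtype.val hk⟩
    · have h2 : A.index = 2 := by omega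
      have h3 := Subgroup.relIndex_mul_index hΦA
      rw [h2] at h3
      omega
  have key : ∀ t : U, orderOf t = 2 → t ∈ frattini U := by
    intro t ht
    by_contra htΦ
    have n1 : t⁻¹ * δ t ∉ frattini U := no_fix hU h4 δ hr2 hδr hδ htΦ
    have n2 : t⁻¹ * (δ ^ 2) t ∉ frattini U := no_fix hU h4 (δ ^ 2) hr2 hδ2r hδ2 htΦ
    have n3 : (δ t)⁻¹ * (δ ^ 2) t ∉ frattini U := by
      have e : (δ t)⁻¹ * (δ ^ 2) t = δ (t⁻¹ * δ t) := by
        rw [map_mul, map_inv, pow_two, MulAut.mul_apply]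
      rw [e]
      exact hδΦ _ n1
    have fin : ∀ u : U, u ∈ A → orderOf u = 2 → u ∉ frattini U → False := by
      intro u hu hu2 huΦ
      apply huΦ
      rw [Cfsg.Agent.Lib.Helper11.eq_of_orderOf_two_of_mem_cyclic A hu (hΦA hs0Φ) hu2 hs0]
      exact hs0Φ
    have o1 : orderOf (δ t) = 2 := by rw [MulEquiv.orderOf_eq, ht]
    have o2 : orderOf ((δ ^ 2) t) = 2 := by rw [MulEquiv.orderOf_eq, ht]
    by_cases a0 : t ∈ A
    · exact fin t a0 ht htΦ
    by_cases a1 : δ t ∈ A
    · exact fin _ a1 o1 (hδΦ _ htΦ)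
    by_cases a2 : (δ ^ 2) t ∈ A
    · refine fin _ a2 o2 ?_
      rw [pow_two, MulAut.mul_apply]
      exact hδΦ _ (hδΦ _ htΦ)
    have hA2 : A.relIndex ⊤ ≤ 2 := by rw [Subgroup.relIndex_top_right]; exact hA
    have b1 : t⁻¹ * δ t ∈ A := rel_two hA2 (mem_top _) (mem_top _) a0 a1
    have b2 : t⁻¹ * (δ ^ 2) t ∈ A := rel_two hA2 (mem_top _) (mem_top _) a0 a2
    have b3 := rel_two hrel b1 b2 n1 n2
    apply n3
    have e : (t⁻¹ * δ t)⁻¹ * (t⁻¹ * (δ ^ 2) t) = (δ t)⁻¹ * (δ ^ 2) t := by group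
    rwa [e] at b3
  intro s t hs ht
  exact Cfsg.Agent.Lib.Helper11.eq_of_orderOf_two_of_mem_cyclic A (hΦA (key s hs)) (hΦA (key t ht)) hs ht

end Cfsg.Agent.Lib.Helper71
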