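import Mathlib
import Cfsg.Prelude.Def_CaseTheorems

set_option autoImplicit false

namespace Cfsg.Agent.Lib.Helper71

open Subgroup

/-- A dihedral group of order at least eight or a semidihedral group has a non-central element
generating a subgroup of index two. -/
theorem exists_cyc_data {S : Type*} [Group S] [Finite S]
    (hT : (∃ n : ℕ, 4 ≤ n ∧ Nonempty (S ≃* DihedralGroup n)) ∨ Cfsg.IsQuasiDihedral S) :
    ∃ c y : S, Nat.card S = 2 * orderOf c ∧ y * c ≠ c * y := by
  rcases hT with ⟨n, hn, ⟨e⟩⟩ | ⟨n, hn, hcard, x, y, hx, hy, hyx⟩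
  · have : NeZero n := ⟨by omega⟩
    refine ⟨e.symm (DihedralGroup.r 1), e.symm (DihedralGroup.sr 0), ?_, ?_⟩
    · rw [MulEquiv.orderOf_eq, DihedralGroup.orderOf_r_one, Nat.card_congr e.toEquiv,
        DihedralGroup.nat_card]
    · rw [← map_mul, ← map_mul]
      intro h
      have h1 := e.symm.injective h
      rw [DihedralGroup.sr_mul_r, DihedralGroup.r_mul_sr] at h1
      have h2 : (0 : ZMod n) + 1 = 0 - 1 := by
        injection h1
      have h3 : ((2 : ℕ) : ZMod n) = 0 := by
        have : (2 : ZMod n) = 0 := by linear_combination h2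
        exact_mod_cast this
      rw [ZMod.natCast_eq_zero_iff] at h3
      have := Nat.le_of_dvd (by norm_num) h3
      omega
  · refine ⟨x, y, ?_, ?_⟩
    · rw [hcard, hx, pow_succ]; ring
    · intro h
      have h1 : y * x * y⁻¹ = x := by rw [h]; group
      rw [h1] at hyx
      have h2 : 2 ≤ 2 ^ (n - 1) - 1 := by
        have : 2 ^ 2 ≤ 2 ^ (n - 1) := Nat.pow_le_pow_right (by norm_num) (by omega)
        omega
      have h3 : x ^ (2 ^ (n - 1) - 1 - 1) = 1 := by
        have h4 : x ^ (2 ^ (n - 1) - 1) = x ^ (2 ^ (n - 1) - 1 - 1) * x := by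
          rw [← pow_succ]; congr 1; omega
        rw [h4] at hyx
        exact (mul_eq_right.1 hyx.symm)
      have h5 := orderOf_dvd_of_pow_eq_one h3
      rw [hx] at h5
      have h6 := Nat.le_of_dvd (by omega) h5
      have h7 : 2 ^ (n - 1) ≤ 2 ^ n := Nat.pow_le_pow_right (by norm_num) (by omega)
      omega

end Cfsg.Agent.Lib.Helper71
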