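import Mathlib
import Cfsg.Agent.Lib.Helper19.QuatSylow
import Cfsg.Agent.Lib.Helper59.TwoGroupUniq
import Cfsg.Agent.Lib.Helper59.TwoGroupRecog
import Cfsg.Agent.Lib.Helper11.NPC

set_option autoImplicit false

namespace Cfsg.Agent.Lib.Helper71

/-- an element of odd order normalizing a cyclic 2-subgroup centralizes it -/
theorem odd_centralizes_cyclic {G : Type*} [Group G] [Finite G] (Q : Subgroup G) [hc : IsCyclic Q]
    (hQ : IsPGroup 2 Q) (g : G) (hg : g ∈ Subgroup.normalizer (Q : Set G))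
    (ho : (orderOf g).Coprime 2) : ∀ q ∈ Q, g * q = q * g := by
  have : Fact (Nat.Prime 2) := ⟨Nat.prime_two⟩
  obtain ⟨k, hk⟩ := IsPGroup.iff_card.1 hQ
  let e := Subgroup.subgroupOfEquivOfLe (Subgroup.le_normalizer (H := Q))
  have hn : (Q.subgroupOf (Subgroup.normalizer (Q : Set G))).Normal := Subgroup.normal_in_normalizer
  have hcyc : IsCyclic (Q.subgroupOf (Subgroup.normalizer (Q : Set G))) :=
    isCyclic_of_surjective e.symm e.symm.surjective
  have hcard : Nat.card (Q.subgroupOf (Subgroup.normalizer (Q : Set G))) = 2 ^ k := by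
    rw [Nat.card_congr e.toEquiv, hk]
  have h := Cfsg.Agent.Lib.Helper19.odd_centralizes_cyclic_two
    (Q.subgroupOf (Subgroup.normalizer (Q : Set G))) k hcard ⟨g, hg⟩
    (by rw [Subgroup.orderOf_mk]; exact ho)
  intro q hq
  have h2 := Subgroup.mem_centralizer_iff.1 h ⟨q, Subgroup.le_normalizer hq⟩
    (by rw [SetLike.mem_coe, Subgroup.mem_subgroupOf]; exact hq)
  exact (congrArg Subtype.val h2).symm

/-- an element of odd order normalizing a generalized quaternion group of order at least 16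
centralizes it -/
theorem odd_centralizes_quat {G : Type*} [Group G] [Finite G] (Q : Subgroup G)
    (hQ : IsPGroup 2 Q) (g : G) (hg : g ∈ Subgroup.normalizer (Q : Set G))
    (ho : (orderOf g).Coprime 2) (k : ℕ) (hk : 1 ≤ k) (a b : Q) (ha : orderOf a = 4 * 2 ^ k)
    (hcard : Nat.card Q = 8 * 2 ^ k) (hb : b ∉ Subgroup.zpowers a)
    (hbb : b * b = a ^ (2 * 2 ^ k)) (hba : b * a * b⁻¹ = a⁻¹) : ∀ q ∈ Q, g * q = q * g := by
  have : Fact (Nat.Prime 2) := ⟨Nat.prime_two⟩
  have hidx : (Subgroup.zpowers a).index = 2 := by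
    have h1 := Subgroup.card_mul_index (Subgroup.zpowers a)
    rw [Nat.card_zpowers, ha, hcard] at h1
    have hpos : 0 < 4 * 2 ^ k := by positivity
    have : 4 * 2 ^ k * (Subgroup.zpowers a).index = 4 * 2 ^ k * 2 := by rw [h1]; ring
    exact Nat.eq_of_mul_eq_mul_left hpos this
  have hconjc : ∀ c ∈ Subgroup.zpowers a, b * c * b⁻¹ = c⁻¹ := by
    rintro c ⟨t, rfl⟩
    change b * a ^ t * b⁻¹ = (a ^ t)⁻¹
    rw [← conj_zpow, hba, inv_zpow]
  have hdecomp : ∀ x : Q, x ∉ Subgroup.zpowers a → x * b⁻¹ ∈ Subgroup.zpowers a := by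
    intro x hx
    rw [Subgroup.mul_mem_iff_of_index_two hidx]
    constructor
    · intro h; exact absurd h hx
    · intro h; exact absurd ((Subgroup.inv_mem_iff _).1 h) hb
  have hfour : ∀ x : Q, x ∉ Subgroup.zpowers a → x ^ 4 = 1 := by
    intro x hx
    have hc := hdecomp x hx
    set c := x * b⁻¹ with hcdef
    have hx' : x = c * b := by rw [hcdef]; group
    have hxx : x * x = b * b := by
      calc x * x = c * (b * c * b⁻¹) * (b * b) := by rw [hx']; group
        _ = b * b := by rw [hconjc c hc]; group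
    calc x ^ 4 = (x * x) * (x * x) := by simp only [pow_succ, pow_zero, one_mul, mul_assoc]
      _ = a ^ (2 * 2 ^ k) * a ^ (2 * 2 ^ k) := by rw [hxx, hbb]
      _ = a ^ (4 * 2 ^ k) := by rw [← pow_add]; congr 1; ring
      _ = 1 := by rw [← ha]; exact pow_orderOf_eq_one a
  have hgQ : ∀ q ∈ Q, g * q * g⁻¹ ∈ Q := fun q hq => (Subgroup.mem_normalizer_iff.1 hg q).1 hq
  -- g normalizes ⟨a⟩
  have hga : (⟨g * a * g⁻¹, hgQ a a.2⟩ : Q) ∈ Subgroup.zpowers a := by
    by_contra hcon
    have h4 := hfour _ hcon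
    have h5 : (g * (a : G) * g⁻¹) ^ 4 = 1 := by
      have := congrArg Subtype.val h4
      simpa using this
    have h6 : (a : G) ^ 4 = 1 := by
      rw [conj_pow] at h5
      have : (a : G) ^ 4 = g⁻¹ * (g * (a : G) ^ 4 * g⁻¹) * g := by group
      rw [this, h5]; group
    have h7 : orderOf (a : G) ∣ 4 := orderOf_dvd_of_pow_eq_one h6
    rw [Subgroup.orderOf_coe, ha] at h7
    have h8 : 4 * 2 ^ k ≤ 4 := Nat.le_of_dvd (by norm_num) h7
    have h9 : 2 ≤ 2 ^ k := by
      calc 2 = 2 ^ 1 := by norm_num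
        _ ≤ 2 ^ k := Nat.pow_le_pow_right (by norm_num) hk
    omega
  have hgaG : g * (a : G) * g⁻¹ ∈ Subgroup.zpowers (a : G) := by
    obtain ⟨t, ht⟩ := hga
    refine ⟨t, ?_⟩
    have := congrArg Subtype.val ht
    simpa using this
  have hnorm : g ∈ Subgroup.normalizer ((Subgroup.zpowers (a : G) : Subgroup G) : Set G) := by
    apply Cfsg.Agent.Lib.Helper11.mem_normalizer_of_conj_mem
    rintro d ⟨t, rfl⟩
    change g * (a : G) ^ t * g⁻¹ ∈ _
    rw [← conj_zpow]
    exact Subgroup.zpow_mem _ hgaG t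
  have hle : Subgroup.zpowers (a : G) ≤ Q := by
    rw [Subgroup.zpowers_le]; exact a.2
  have hcent := odd_centralizes_cyclic (Subgroup.zpowers (a : G)) (hQ.to_le hle) g hnorm ho
  -- g centralizes b
  have hmemG : ∀ x : Q, x ∈ Subgroup.zpowers a ↔ (x : G) ∈ Subgroup.zpowers (a : G) := by
    intro x
    constructor
    · rintro ⟨t, rfl⟩; exact ⟨t, by simp⟩
    · rintro ⟨t, ht⟩; exact ⟨t, Subtype.ext (by simpa using ht)⟩
  have hgb : (⟨g * b * g⁻¹, hgQ b b.2⟩ : Q) ∉ Subgroup.zpowers a := by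
    intro h
    apply hb
    rw [hmemG] at h ⊢
    have h1 : g * (g * (b : G) * g⁻¹) = (g * (b : G) * g⁻¹) * g := hcent _ h
    have h2 : (b : G) = g * b * g⁻¹ := by
      calc (b : G) = g⁻¹ * ((g * b * g⁻¹) * g) := by group
        _ = g⁻¹ * (g * (g * b * g⁻¹)) := by rw [← h1]
        _ = g * b * g⁻¹ := by group
    rw [h2]; exact h
  have hc := (hmemG _).1 (hdecomp _ hgb)
  set c : G := g * b * g⁻¹ * (b : G)⁻¹ with hcdef
  have hc' : c ∈ Subgroup.zpowers (a : G) := by
    have : ((⟨g * b * g⁻¹, hgQ b b.2⟩ * b⁻¹ : Q) : G) = c := by simp [hcdef]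
    rw [← this]; exact hc
  have hgc : g * c = c * g := hcent c hc'
  have hpow : ∀ r : ℕ, g ^ r * (b : G) * (g ^ r)⁻¹ = c ^ r * b := by
    intro r
    induction r with
    | zero => simp
    | succ r ih =>
      have hgcr : g * c ^ r = c ^ r * g := ((show Commute g c from hgc).pow_right r).eq
      calc g ^ (r + 1) * (b : G) * (g ^ (r + 1))⁻¹ = g * (g ^ r * (b : G) * (g ^ r)⁻¹) * g⁻¹ := by
            rw [pow_succ']; group
        _ = g * (c ^ r * b) * g⁻¹ := by rw [ih]
        _ = (g * c ^ r) * b * g⁻¹ := by group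
        _ = c ^ r * (g * b * g⁻¹ * (b : G)⁻¹) * b := by rw [hgcr]; group
        _ = c ^ (r + 1) * b := by rw [← hcdef, pow_succ]
  have hc1 : c = 1 := by
    have h1 := hpow (orderOf g)
    rw [pow_orderOf_eq_one] at h1
    have h2 : c ^ orderOf g = 1 := by
      have : c ^ orderOf g * (b : G) = b := by rw [← h1]; group
      exact mul_eq_right.1 this
    obtain ⟨s, hs⟩ := hQ ⟨c, hle hc'⟩
    have hs' : c ^ 2 ^ s = 1 := by
      have := congrArg Subtype.val hs
      simpa using this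
    have d1 : orderOf c ∣ orderOf g := orderOf_dvd_of_pow_eq_one h2
    have d2 : orderOf c ∣ 2 ^ s := orderOf_dvd_of_pow_eq_one hs'
    exact orderOf_eq_one_iff.1 (Nat.eq_one_of_dvd_coprimes (Nat.Coprime.pow_right s ho) d1 d2)
  have hgbc : g * (b : G) = b * g := by
    have : g * b * g⁻¹ = b := by
      calc g * b * g⁻¹ = c * b := by rw [hcdef]; group
        _ = b := by rw [hc1, one_mul]
    calc g * (b : G) = (g * b * g⁻¹) * g := by group
      _ = b * g := by rw [this]
  intro q hq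
  by_cases hqa : (⟨q, hq⟩ : Q) ∈ Subgroup.zpowers a
  · exact hcent q ((hmemG _).1 hqa)
  · have h1 := (hmemG _).1 (hdecomp _ hqa)
    have h2 : ((⟨q, hq⟩ * b⁻¹ : Q) : G) = q * (b : G)⁻¹ := by simp
    rw [h2] at h1
    have h3 := hcent _ h1
    calc g * q = (g * (q * (b : G)⁻¹)) * b := by group
      _ = q * (b : G)⁻¹ * (g * b) := by rw [h3]; group
      _ = q * g := by rw [hgbc]; group

/-- A 2-subgroup with at most one involution which is normalized but not centralized by an
element of odd order is a quaternion group of order eight. -/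
theorem q8_of_odd_action {G : Type*} [Group G] [Finite G] (Q : Subgroup G)
    (hQ : IsPGroup 2 Q) (huniq : ∀ x ∈ Q, ∀ y ∈ Q, orderOf x = 2 → orderOf y = 2 → x = y)
    (g : G) (hg : g ∈ Subgroup.normalizer (Q : Set G))
    (ho : (orderOf g).Coprime 2) (hnc : ∃ q ∈ Q, g * q ≠ q * g) :
    Nonempty (Q ≃* QuaternionGroup 2) := by
  obtain ⟨q, hq, hgq⟩ := hnc
  rcases Cfsg.Agent.Lib.Helper59.two_group_unique_involution (G := Q) hQ (by
    intro x y hx hy
    apply Subtype.ext
    exact huniq x x.2 y y.2 (by rw [Subgroup.orderOf_coe, hx]) (by rw [Subgroup.orderOf_coe, hy]))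
    with hcyc | ⟨k, a, b, ha, hcard, hb, hbb, hba⟩
  · exact absurd (odd_centralizes_cyclic Q hQ g hg ho q hq) hgq
  · rcases Nat.eq_zero_or_pos k with rfl | hk
    · exact Cfsg.Agent.Lib.Helper59.quaternion_recog 2 (by norm_num) a b (by rw [ha]; norm_num)
        (by rw [hbb]; norm_num) hba hb (by rw [hcard]; norm_num)
    · exact absurd (odd_centralizes_quat Q hQ g hg ho k hk a b ha hcard hb hbb hba q hq) hgq

end Cfsg.Agent.Lib.Helper71
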