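import Mathlib

set_option autoImplicit false

namespace Cfsg.Agent.Lib.Helper71

open QuaternionGroup

theorem q8_dec1 : ∀ x : QuaternionGroup 2, x = 1 ∨ x = a 2 ∨ x * x = a 2 := by decide

theorem q8_dec2 : ∀ i j : QuaternionGroup 2, i * i = a 2 → j * j = a 2 → j ≠ i → j ≠ i⁻¹ →
    (j * i * j⁻¹ = i⁻¹ ∧ ∀ u : QuaternionGroup 2, u * u = a 2 →
      (u = i ∨ u = i⁻¹ ∨ u = j ∨ u = j⁻¹ ∨ u = i * j ∨ u = (i * j)⁻¹)) := by decide

/-- Elementwise structure of a subgroup isomorphic to the quaternion group of order eight. -/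
theorem q8_struct {G : Type*} [Group G] (U : Subgroup G) (e : U ≃* QuaternionGroup 2) :
    ∃ z ∈ U, z ≠ 1 ∧ z * z = 1 ∧ (∀ x ∈ U, x = 1 ∨ x = z ∨ x * x = z) ∧
      (∀ i ∈ U, ∀ j ∈ U, i * i = z → j * j = z → j ≠ i → j ≠ i⁻¹ →
        (j * i * j⁻¹ = i⁻¹ ∧ ∀ u ∈ U, u * u = z →
          (u = i ∨ u = i⁻¹ ∨ u = j ∨ u = j⁻¹ ∨ u = i * j ∨ u = (i * j)⁻¹))) := by
  have key : ∀ x y : U, e x = e y ↔ (x : G) = y := fun x y =>
    ⟨fun h => congrArg Subtype.val (e.injective h), fun h => congrArg e (Subtype.ext h)⟩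
  have hez : e (e.symm (a 2)) = a 2 := e.apply_symm_apply _
  refine ⟨(e.symm (a 2) : U), (e.symm (a 2)).2, ?_, ?_, ?_, ?_⟩
  · intro h
    have h1 : e (e.symm (a 2)) = e 1 := (key _ _).2 h
    rw [hez, map_one] at h1
    revert h1; decide
  · have h1 : e (e.symm (a 2) * e.symm (a 2)) = e 1 := by
      rw [map_mul, hez, map_one]; decide
    exact (key _ _).1 h1
  · intro x hx
    rcases q8_dec1 (e ⟨x, hx⟩) with h | h | h
    · left
      exact (key ⟨x, hx⟩ 1).1 (by rw [h, map_one])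
    · right; left
      exact (key ⟨x, hx⟩ _).1 (by rw [h, hez])
    · right; right
      exact (key (⟨x, hx⟩ * ⟨x, hx⟩) (e.symm (a 2))).1 (by rw [map_mul, h, hez])
  · intro i hi j hj hii hjj hne hne'
    obtain ⟨h1, h2⟩ := q8_dec2 (e ⟨i, hi⟩) (e ⟨j, hj⟩)
      (by rw [← map_mul, ← hez]; exact (key (⟨i, hi⟩ * ⟨i, hi⟩) _).2 hii)
      (by rw [← map_mul, ← hez]; exact (key (⟨j, hj⟩ * ⟨j, hj⟩) _).2 hjj)
      (fun h => hne ((key ⟨j, hj⟩ ⟨i, hi⟩).1 h))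
      (fun h => hne' ((key ⟨j, hj⟩ (⟨i, hi⟩)⁻¹).1 (by rw [h, map_inv])))
    refine ⟨?_, ?_⟩
    · exact (key (⟨j, hj⟩ * ⟨i, hi⟩ * (⟨j, hj⟩)⁻¹) (⟨i, hi⟩)⁻¹).1 (by
        rw [map_mul, map_mul, map_inv, map_inv]; exact h1)
    · intro u hu huu
      rcases h2 (e ⟨u, hu⟩)
        (by rw [← map_mul, ← hez]; exact (key (⟨u, hu⟩ * ⟨u, hu⟩) _).2 huu) with h | h | h | h | h | h
      · exact Or.inl ((key ⟨u, hu⟩ ⟨i, hi⟩).1 h)
      · exact Or.inr (Or.inl ((key ⟨u, hu⟩ (⟨i, hi⟩)⁻¹).1 (by rw [h, map_inv])))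
      · exact Or.inr (Or.inr (Or.inl ((key ⟨u, hu⟩ ⟨j, hj⟩).1 h)))
      · exact Or.inr (Or.inr (Or.inr (Or.inl ((key ⟨u, hu⟩ (⟨j, hj⟩)⁻¹).1 (by rw [h, map_inv])))))
      · exact Or.inr (Or.inr (Or.inr (Or.inr (Or.inl
          ((key ⟨u, hu⟩ (⟨i, hi⟩ * ⟨j, hj⟩)).1 (by rw [h, map_mul]))))))
      · exact Or.inr (Or.inr (Or.inr (Or.inr (Or.inr
          ((key ⟨u, hu⟩ (⟨i, hi⟩ * ⟨j, hj⟩)⁻¹).1 (by rw [h, map_inv, map_mul]))))))

theorem comm_of_pow_comm {G : Type*} [Group G] (g u : G) (m k : ℕ) (hgm : g ^ m = 1)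
    (hk : Nat.Coprime k m) (h : g ^ k * u = u * g ^ k) : g * u = u * g := by
  have h1 : Nat.Coprime k (orderOf g) := Nat.Coprime.coprime_dvd_right (orderOf_dvd_of_pow_eq_one hgm) hk
  obtain ⟨n, hn⟩ := exists_pow_eq_self_of_coprime h1
  have h2 : Commute (g ^ k) u := h
  have h3 : Commute ((g ^ k) ^ n) u := h2.pow_left n
  rw [hn] at h3
  exact h3.eq

/-- An element of odd order normalizing but not centralizing a quaternion group of order eight
permutes three generators cyclically. -/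
theorem q8_action {G : Type*} [Group G] (U : Subgroup G) (e : U ≃* QuaternionGroup 2) (g : G)
    (hgU : ∀ u ∈ U, g * u * g⁻¹ ∈ U) (m : ℕ) (hm : Odd m) (hgm : g ^ m = 1)
    (hnc : ∃ u ∈ U, g * u * g⁻¹ ≠ u) :
    ∃ i j : G, i ∈ U ∧ j ∈ U ∧ orderOf i = 4 ∧ j * j = i ^ 2 ∧ j * i * j⁻¹ = i⁻¹ ∧
      j ∉ Subgroup.zpowers i ∧ g * i * g⁻¹ = j ∧ g * j * g⁻¹ = i * j ∧
      (∀ u ∈ U, u * u = i ^ 2 → (u = i ∨ u = i⁻¹ ∨ u = j ∨ u = j⁻¹ ∨ u = i * j ∨ u = (i * j)⁻¹)) ∧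
      (∀ u ∈ U, u = 1 ∨ u = i ^ 2 ∨ u * u = i ^ 2) := by
  obtain ⟨z, hzU, hz1, hzz, h3, h4⟩ := q8_struct U e
  have hc2 : Nat.Coprime 2 m := (Nat.coprime_two_left).2 hm
  have hc4 : Nat.Coprime 4 m := Nat.Coprime.pow_left 2 hc2
  have cmul : ∀ x y : G, g * (x * y) * g⁻¹ = (g * x * g⁻¹) * (g * y * g⁻¹) := by
    intro x y; group
  have cinv : ∀ x : G, g * x⁻¹ * g⁻¹ = (g * x * g⁻¹)⁻¹ := by intro x; group
  have cinj : ∀ x y : G, g * x * g⁻¹ = g * y * g⁻¹ → x = y := by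
    intro x y h
    have := congrArg (fun t => g⁻¹ * t * g) h
    simpa [mul_assoc] using this
  have cfix : ∀ x : G, g * x = x * g → g * x * g⁻¹ = x := by
    intro x h; rw [h]; group
  have c2 : ∀ x : G, g * (g * x * g⁻¹) * g⁻¹ = x → g * x * g⁻¹ = x := by
    intro x h
    apply cfix
    apply comm_of_pow_comm g x m 2 hgm hc2
    calc g ^ 2 * x = (g * (g * x * g⁻¹) * g⁻¹) * g ^ 2 := by
          simp only [pow_succ, pow_zero, one_mul]; group
      _ = x * g ^ 2 := by rw [h]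
  have c4 : ∀ x : G, g * (g * (g * (g * x * g⁻¹) * g⁻¹) * g⁻¹) * g⁻¹ = x → g * x * g⁻¹ = x := by
    intro x h
    apply cfix
    apply comm_of_pow_comm g x m 4 hgm hc4
    calc g ^ 4 * x = (g * (g * (g * (g * x * g⁻¹) * g⁻¹) * g⁻¹) * g⁻¹) * g ^ 4 := by
          simp only [pow_succ, pow_zero, one_mul]; group
      _ = x * g ^ 4 := by rw [h]
  -- the involution is fixed
  have hgz : g * z * g⁻¹ = z := by
    have h1 : (g * z * g⁻¹) * (g * z * g⁻¹) = 1 := by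
      rw [← cmul, hzz]; group
    rcases h3 _ (hgU z hzU) with h | h | h
    · exfalso; apply hz1
      apply cinj z 1
      rw [h]; group
    · exact h
    · exfalso; apply hz1; rw [← h, h1]
  have hsq : ∀ x : G, x * x = z → (g * x * g⁻¹) * (g * x * g⁻¹) = z := by
    intro x hx; rw [← cmul, hx, hgz]
  have hne_inv : ∀ x : G, x * x = z → x ≠ x⁻¹ := by
    intro x hx h
    apply hz1
    rw [← hx]
    calc x * x = x * x⁻¹ := by rw [← h]
      _ = 1 := mul_inv_cancel x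
  -- some element of order four is moved out of its cyclic subgroup
  obtain ⟨i, hiU, hii, hi1, hi2⟩ : ∃ i ∈ U, i * i = z ∧ g * i * g⁻¹ ≠ i ∧ g * i * g⁻¹ ≠ i⁻¹ := by
    by_contra hcon
    push Not at hcon
    obtain ⟨u, huU, hu⟩ := hnc
    apply hu
    rcases h3 u huU with h | h | h
    · rw [h]; group
    · rw [h]; exact hgz
    · by_contra hne
      have h5 := hcon u huU h hne
      apply hne
      apply c2
      rw [h5, cinv, h5, inv_inv]
  -- final packaging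
  have finish : ∀ i j : G, i ∈ U → j ∈ U → i * i = z → j * j = z → j ≠ i → j ≠ i⁻¹ →
      g * i * g⁻¹ = j → g * j * g⁻¹ = i * j →
      ∃ i j : G, i ∈ U ∧ j ∈ U ∧ orderOf i = 4 ∧ j * j = i ^ 2 ∧ j * i * j⁻¹ = i⁻¹ ∧
      j ∉ Subgroup.zpowers i ∧ g * i * g⁻¹ = j ∧ g * j * g⁻¹ = i * j ∧
      (∀ u ∈ U, u * u = i ^ 2 → (u = i ∨ u = i⁻¹ ∨ u = j ∨ u = j⁻¹ ∨ u = i * j ∨ u = (i * j)⁻¹)) ∧
      (∀ u ∈ U, u = 1 ∨ u = i ^ 2 ∨ u * u = i ^ 2) := by
    intro i j hiU hjU hii hjj hne hne' hgi hgj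
    obtain ⟨hji, hall⟩ := h4 i hiU j hjU hii hjj hne hne'
    have hi2 : i ^ 2 = z := by rw [pow_two, hii]
    have : Fact (Nat.Prime 2) := ⟨Nat.prime_two⟩
    have hord : orderOf i = 4 := by
      have := orderOf_eq_prime_pow (x := i) (p := 2) (n := 1) (by rw [pow_one, hi2]; exact hz1)
        (by
          have : i ^ 2 ^ (1 + 1) = (i ^ 2) * (i ^ 2) := by rw [← pow_add]; norm_num
          rw [this, hi2, hzz])
      simpa using this
    refine ⟨i, j, hiU, hjU, hord, by rw [hi2, hjj], hji, ?_, hgi, hgj, ?_, ?_⟩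
    · rintro ⟨k, hk⟩
      have hk' : i ^ k = j := hk
      have hcomm : j * i = i * j := by
        rw [← hk']; exact ((Commute.refl i).zpow_left k).eq
      apply hne_inv i hii
      rw [← hji, hcomm]; group
    · intro u hu huu
      exact hall u hu (by rw [huu, hi2])
    · intro u hu
      rw [hi2]; exact h3 u hu
  have hjU : g * i * g⁻¹ ∈ U := hgU i hiU
  have hjj : (g * i * g⁻¹) * (g * i * g⁻¹) = z := hsq i hii
  obtain ⟨hji, hall⟩ := h4 i hiU _ hjU hii hjj hi1 hi2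
  have hkU : g * (g * i * g⁻¹) * g⁻¹ ∈ U := hgU _ hjU
  have hkk := hsq _ hjj
  rcases hall _ hkU hkk with h | h | h | h | h | h
  · exact absurd (c2 i h) hi1
  · exfalso
    apply hi1
    apply c4
    rw [h, cinv, cinv, h, inv_inv]
  · exact absurd (cinj _ _ h) hi1
  · exfalso
    have h5 : g * (g * i * g⁻¹) * g⁻¹ = g * i * g⁻¹ := by
      apply c2
      rw [h, cinv, h, inv_inv]
    rw [h5] at h
    exact hne_inv _ hjj h
  · exact finish i (g * i * g⁻¹) hiU hjU hii hjj hi1 hi2 rfl h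
  · set j := g * i * g⁻¹ with hjdef
    have hzinv : z⁻¹ = z := inv_eq_of_mul_eq_one_left hzz
    apply finish i⁻¹ j⁻¹ (U.inv_mem hiU) (U.inv_mem hjU)
    · rw [← mul_inv_rev, hii, hzinv]
    · rw [← mul_inv_rev, hjj, hzinv]
    · intro h'; exact hi1 (inv_injective h')
    · rw [inv_inv]; intro h'; apply hi2; rw [← h', inv_inv]
    · rw [cinv]
    · rw [cinv, h, inv_inv]
      have h6 : i * j * (j * i) = 1 := by
        calc i * j * (j * i) = i * (j * j) * i := by group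
          _ = (i * i) * (i * i) := by rw [hjj, ← hii]; group
          _ = 1 := by rw [hii, hzz]
      calc i * j = (j * i)⁻¹ := eq_inv_of_mul_eq_one_left h6
        _ = i⁻¹ * j⁻¹ := by group

end Cfsg.Agent.Lib.Helper71
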