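import Mathlib

set_option autoImplicit false

namespace Cfsg.Agent.Lib.Helper71

/-- In a finite group `g` normalizes `⟨x⟩` iff it conjugates `x` into `⟨x⟩`. -/
theorem mem_normalizer_zpowers_iff {G : Type*} [Group G] [Finite G] (g x : G) :
    g ∈ Subgroup.normalizer ((Subgroup.zpowers x : Subgroup G) : Set G) ↔
      g * x * g⁻¹ ∈ Subgroup.zpowers x := by
  constructor
  · intro h
    exact (Subgroup.mem_normalizer_iff.mp h x).mp (Subgroup.mem_zpowers x)
  · intro h
    rw [Subgroup.mem_normalizer_iff_map_conj_eq]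
    have h1 : (Subgroup.zpowers x).map (MulAut.conj g : G ≃* G).toMonoidHom
        = Subgroup.zpowers (g * x * g⁻¹) := by
      rw [MonoidHom.map_zpowers]; rfl
    change (Subgroup.zpowers x).map (MulAut.conj g : G ≃* G).toMonoidHom = _
    rw [h1]
    apply Subgroup.eq_of_le_of_card_ge
    · rwa [Subgroup.zpowers_le]
    · rw [Nat.card_zpowers, Nat.card_zpowers]
      have hs : SemiconjBy g x (g * x * g⁻¹) := by unfold SemiconjBy; group
      rw [hs.orderOf_eq]

theorem orderOf_eq_prime_pow_of_forall {G : Type*} [Group G] [Finite G] {p : ℕ} (x : G)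
    (h : ∀ r : ℕ, r.Prime → r ∣ orderOf x → r = p) : ∃ k : ℕ, orderOf x = p ^ k :=
  ⟨_, Nat.eq_prime_pow_of_unique_prime_dvd (orderOf_pos x).ne' (fun {d} hd hdx => h d hd hdx)⟩

theorem forall_prime_of_orderOf_eq_prime_pow {G : Type*} [Group G] {p : ℕ} (hp : p.Prime) (x : G)
    {k : ℕ} (h : orderOf x = p ^ k) : ∀ r : ℕ, r.Prime → r ∣ orderOf x → r = p := by
  intro r hr hrx
  rw [h] at hrx
  exact (Nat.prime_dvd_prime_iff_eq hr hp).mp (hr.dvd_of_dvd_pow hrx)

/-- Sylow: a `p`-subgroup can be conjugated into a given Sylow `p`-subgroup. -/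
theorem exists_conj_mem_sylow {G : Type*} [Group G] [Finite G] {p : ℕ} [Fact p.Prime]
    (P : Sylow p G) (H : Subgroup G) (hH : IsPGroup p H) :
    ∃ h : G, ∀ y ∈ H, h * y * h⁻¹ ∈ P := by
  obtain ⟨Q, hQ⟩ := hH.exists_le_sylow
  obtain ⟨h, hh⟩ := MulAction.exists_smul_eq G Q P
  refine ⟨h, fun y hy => ?_⟩
  rw [← hh]
  have : h * y * h⁻¹ ∈ ((h • Q : Sylow p G) : Subgroup G) := by
    rw [Sylow.coe_subgroup_smul]
    exact ⟨y, hQ hy, rfl⟩
  exact this

/-- iterated conjugation of a normalized cyclic group -/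
theorem conj_pow_eq_pow_pow {G : Type*} [Group G] {g x : G} {k : ℕ} (h : g * x * g⁻¹ = x ^ k)
    (j : ℕ) : g ^ j * x * (g ^ j)⁻¹ = x ^ (k ^ j) := by
  induction j with
  | zero => simp
  | succ j ih =>
    have : g ^ (j + 1) * x * (g ^ (j + 1))⁻¹ = g * (g ^ j * x * (g ^ j)⁻¹) * g⁻¹ := by
      rw [pow_succ']; simp only [mul_inv_rev]; group
    rw [this, ih, ← conj_pow, h, ← pow_mul, pow_succ']

end Cfsg.Agent.Lib.Helper71
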