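import Cfsg.Agent.Lib.Helper71.SAShift

/-!
SA ladder (helper53), rung CLAIMA.
-/

set_option autoImplicit false

namespace Cfsg.Agent.Lib.Helper71.SA

open Cfsg Subgroup
open Cfsg.Agent.Lib.Helper53.SA
open Cfsg.Agent.Lib.Helper53.JC (cjj QQ)

variable {G : Type*} [Group G]

/-- a second neighbour of `g`, different from `h` -/
theorem exists_other_nbr {Pc Qc Zc : G → Subgroup G} {Adj : G → G → Prop}
    (hg : Geo Pc Qc Zc Adj) {g h : G} (hadj : Adj g h) :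
    ∃ l, Adj g l ∧ Pc g ⊓ Pc l ≠ Pc g ⊓ Pc h := by
  obtain ⟨a, ha, hna⟩ := hg.exm g h hadj
  exact ⟨a * h, hg.act g h hadj a ha, hg.move g h hadj a ha hna⟩

theorem claimA_half (hs : ShiftSt G) {Pc Qc Zc : G → Subgroup G} {Adj : G → G → Prop}
    (hg : Geo Pc Qc Zc Adj) {b : ℕ} {δ : ℕ → G} (hb : 2 ≤ b) (hmin : Min Qc Zc Adj b)
    (hcr : Crit Qc Zc Adj b δ) {r : G} (hr : IsR Pc Qc Zc b δ r) :
    Pc (δ (b - 1)) ≤ centralizer {r} := by
  obtain ⟨k, rfl⟩ : ∃ k, b = k + 2 := ⟨b - 2, by omega⟩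
  have hadj0 : Adj (δ 0) (δ 1) := hcr.1 0 (by omega)
  have hadjk : Adj (δ k) (δ (k + 1)) := hcr.1 k (by omega)
  have hadjb : Adj (δ (k + 1)) (δ (k + 2)) := hcr.1 (k + 1) (by omega)
  obtain ⟨l, hl, hne⟩ := exists_other_nbr hg hadj0
  have hsh := hs Pc Qc Zc Adj hg (k + 2) δ hb hmin hcr l hl hne
  have hsh2 : ¬ Zc l ≤ Qc (δ (k + 1)) := hsh.2
  obtain ⟨q, hq, hqQ⟩ := SetLike.not_le_iff_exists.mp hsh2
  have hqk : q ∈ Qc (δ k) :=
    hmin (k + 1) (by omega) (cons l δ) (isWalk_mono hsh.1 (by omega)) hq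
  have hq0 : q ∈ Qc (δ 0) :=
    hmin 1 (by omega) (cons l δ) (isWalk_mono hsh.1 (by omega)) hq
  have hqr : q ∈ centralizer {r} := by
    rw [mem_centralizer_singleton_iff]
    exact geo_commQZ hg hq0 hr.mem0
  have hne' : Pc (δ (k + 1)) ⊓ Pc (δ k) ≠ Pc (δ (k + 1)) ⊓ Pc (δ (k + 2)) := by
    intro h
    have h1 := hg.same _ _ _ (hg.symm _ _ hadjk) hadjb h
    apply hcr.2
    rw [← h1]
    exact hmin k (by omega) δ (isWalk_mono hcr.1 (by omega))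
  have hqP : q ∈ Pc (δ (k + 1)) := hg.QT _ _ hadjk hqk
  have hqb : q ∉ Pc (δ (k + 2)) := by
    intro h
    exact hqQ (hg.inter _ _ _ (hg.symm _ _ hadjk) hadjb hne' ⟨⟨hqP, hg.QP _ hqk⟩, h⟩)
  exact hg.max _ _ hadjb q hqP hqb _ hr.zb hqr

theorem claimA (hc : CritSt G) (hs : ShiftSt G) : ClaimASt G := by
  intro Pc Qc Zc Adj hg b δ hb hmin hcr r hr
  refine ⟨?_, claimA_half hs hg hb hmin hcr hr⟩
  obtain ⟨hrev, -⟩ := hc Pc Qc Zc Adj hg b δ (by omega) hmin hcr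
  have := claimA_half hs hg hb hmin hrev (isR_rev hg (by omega) hr)
  rwa [rev_pred b (by omega)] at this

end Cfsg.Agent.Lib.Helper71.SA
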