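import Cfsg.Agent.Lib.Helper53.SADefs

/-!
SA ladder (helper53), rung CRIT, together with basic lemmas on walks used by the other rungs.
-/

set_option autoImplicit false
set_option linter.unusedSectionVars false

namespace Cfsg.Agent.Lib.Helper71.SA

open Cfsg Subgroup
open Cfsg.Agent.Lib.Helper53.SA
open Cfsg.Agent.Lib.Helper53.JC (cjj QQ)

variable {G : Type*} [Group G]

/-! ### walks -/

theorem rev_zero (b : ℕ) (δ : ℕ → G) : rev b δ 0 = δ b := rfl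

theorem rev_self (b : ℕ) (δ : ℕ → G) : rev b δ b = δ 0 := by
  show δ (b - b) = δ 0
  rw [Nat.sub_self]

theorem rev_apply (b i : ℕ) (δ : ℕ → G) : rev b δ i = δ (b - i) := rfl

theorem rev_pred (b : ℕ) (hb : 1 ≤ b) (δ : ℕ → G) : rev b δ (b - 1) = δ 1 := by
  show δ (b - (b - 1)) = δ 1
  congr 1
  omega

theorem cons_zero (l : G) (δ : ℕ → G) : cons l δ 0 = l := rfl

theorem cons_succ (l : G) (δ : ℕ → G) (i : ℕ) : cons l δ (i + 1) = δ i := rfl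

theorem isWalk_mono {Adj : G → G → Prop} {n m : ℕ} {δ : ℕ → G} (h : IsWalk Adj n δ) (hm : m ≤ n) :
    IsWalk Adj m δ := fun i hi => h i (lt_of_lt_of_le hi hm)

theorem isWalk_rev {Adj : G → G → Prop} (hs : ∀ g h, Adj g h → Adj h g) {b : ℕ} {δ : ℕ → G}
    (h : IsWalk Adj b δ) : IsWalk Adj b (rev b δ) := by
  intro i hi
  show Adj (δ (b - i)) (δ (b - (i + 1)))
  have h1 := h (b - (i + 1)) (by omega)
  have h2 : b - (i + 1) + 1 = b - i := by omega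
  rw [h2] at h1
  exact hs _ _ h1

theorem isWalk_cons {Adj : G → G → Prop} {n : ℕ} {δ : ℕ → G} {l : G} (hl : Adj l (δ 0))
    (h : IsWalk Adj n δ) : IsWalk Adj (n + 1) (cons l δ) := by
  intro i hi
  cases i with
  | zero => exact hl
  | succ i => exact h i (by omega)

/-! ### commutator identities -/

theorem comm_mul_left {c y w : G} (h1 : c * w = w * c)
    (h2 : c * (y * w * y⁻¹ * w⁻¹) = (y * w * y⁻¹ * w⁻¹) * c) :
    (c * y) * w * (c * y)⁻¹ * w⁻¹ = y * w * y⁻¹ * w⁻¹ := by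
  calc (c * y) * w * (c * y)⁻¹ * w⁻¹ = (c * (y * w * y⁻¹ * w⁻¹)) * w * c⁻¹ * w⁻¹ := by group
    _ = ((y * w * y⁻¹ * w⁻¹) * c) * w * c⁻¹ * w⁻¹ := by rw [h2]
    _ = (y * w * y⁻¹ * w⁻¹) * (c * w) * c⁻¹ * w⁻¹ := by group
    _ = (y * w * y⁻¹ * w⁻¹) * (w * c) * c⁻¹ * w⁻¹ := by rw [h1]
    _ = y * w * y⁻¹ * w⁻¹ := by group

theorem comm_mul_right {d z w : G} (h1 : d * z = z * d)
    (h2 : d * (z * w * z⁻¹ * w⁻¹) = (z * w * z⁻¹ * w⁻¹) * d) :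
    z * (d * w) * z⁻¹ * (d * w)⁻¹ = z * w * z⁻¹ * w⁻¹ := by
  calc z * (d * w) * z⁻¹ * (d * w)⁻¹ = (z * d) * w * z⁻¹ * w⁻¹ * d⁻¹ := by group
    _ = (d * z) * w * z⁻¹ * w⁻¹ * d⁻¹ := by rw [h1]
    _ = (d * (z * w * z⁻¹ * w⁻¹)) * d⁻¹ := by group
    _ = ((z * w * z⁻¹ * w⁻¹) * d) * d⁻¹ := by rw [h2]
    _ = z * w * z⁻¹ * w⁻¹ := by group

theorem comm_eq_one_of_commute {a z : G} (h : a * z = z * a) : a * z * a⁻¹ * z⁻¹ = 1 := by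
  rw [h]; group

theorem commute_of_comm_eq_one {a z : G} (h : a * z * a⁻¹ * z⁻¹ = 1) : a * z = z * a := by
  calc a * z = (a * z * a⁻¹ * z⁻¹) * (z * a) := by group
    _ = z * a := by rw [h, one_mul]

theorem inv_eq_self_of_sq {z : G} (h : z * z = 1) : z⁻¹ = z := (eq_inv_of_mul_eq_one_left h).symm

/-- the algebraic core of rung CRIT -/
theorem crit_core (A B QA QB TA TB : Subgroup G)
    (hATB : A ≤ TB) (hBTA : B ≤ TA)
    (hnA : ∀ a ∈ TA, ∀ z ∈ A, a * z * a⁻¹ ∈ A) (hnB : ∀ a ∈ TB, ∀ z ∈ B, a * z * a⁻¹ ∈ B)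
    (hcA : ∀ c ∈ QA, ∀ z ∈ A, c * z = z * c) (hcB : ∀ c ∈ QB, ∀ z ∈ B, c * z = z * c)
    (hiA : ∀ a b, a ∈ TA → b ∈ TA → a ∉ QA → b ∉ QA → a * b ∈ QA)
    (hiB : ∀ a b, a ∈ TB → b ∈ TB → a ∉ QB → b ∉ QB → a * b ∈ QB)
    (heA : ∀ z ∈ A, z * z = 1) (heB : ∀ z ∈ B, z * z = 1)
    (hzA : ∀ t ∈ TA, (∀ z ∈ A, t * z = z * t) → t ∈ QA)
    (s t : G) (hs : s ∈ A) (hsQ : s ∉ QB) (ht : t ∈ B) (htQ : t ∉ QA) :
    s * t * s⁻¹ * t⁻¹ ≠ 1 ∧ s * t * s⁻¹ * t⁻¹ ∈ A ∧ s * t * s⁻¹ * t⁻¹ ∈ B ∧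
    (∀ s' ∈ A, s' ∉ QB → ∀ t' ∈ B, t' ∉ QA → s' * t' * s'⁻¹ * t'⁻¹ = s * t * s⁻¹ * t⁻¹) ∧
    (∀ z ∈ A, ∀ a ∈ TA, a * z * a⁻¹ * z⁻¹ = 1 ∨ a * z * a⁻¹ * z⁻¹ = s * t * s⁻¹ * t⁻¹) ∧
    (∀ z ∈ B, ∀ a ∈ TB, a * z * a⁻¹ * z⁻¹ = 1 ∨ a * z * a⁻¹ * z⁻¹ = s * t * s⁻¹ * t⁻¹) := by
  have memA : ∀ z ∈ A, ∀ w ∈ B, z * w * z⁻¹ * w⁻¹ ∈ A := by
    intro z hz w hw
    have : z * w * z⁻¹ * w⁻¹ = z * (w * z⁻¹ * w⁻¹) := by group
    rw [this]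
    exact A.mul_mem hz (hnA w (hBTA hw) _ (A.inv_mem hz))
  have memB : ∀ z ∈ A, ∀ w ∈ B, z * w * z⁻¹ * w⁻¹ ∈ B := by
    intro z hz w hw
    exact B.mul_mem (hnB z (hATB hz) _ hw) (B.inv_mem hw)
  have lemY : ∀ w ∈ B, ∀ z ∈ A, z ∉ QB → ∀ z' ∈ A, z' ∉ QB →
      z' * w * z'⁻¹ * w⁻¹ = z * w * z⁻¹ * w⁻¹ := by
    intro w hw z hz hzQ z' hz' hzQ'
    have hc : z' * z ∈ QB := hiB z' z (hATB hz') (hATB hz) hzQ' hzQ
    have e : z' = (z' * z) * z := by rw [mul_assoc, heA z hz, mul_one]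
    have := comm_mul_left (c := z' * z) (y := z) (w := w) (hcB _ hc w hw)
      (hcB _ hc _ (memB z hz w hw))
    rw [← e] at this
    exact this
  have lemX : ∀ z ∈ A, ∀ w ∈ B, w ∉ QA → ∀ w' ∈ B, w' ∉ QA →
      z * w' * z⁻¹ * w'⁻¹ = z * w * z⁻¹ * w⁻¹ := by
    intro z hz w hw hwQ w' hw' hwQ'
    have hd : w' * w ∈ QA := hiA w' w (hBTA hw') (hBTA hw) hwQ' hwQ
    have e : w' = (w' * w) * w := by rw [mul_assoc, heB w hw, mul_one]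
    have := comm_mul_right (d := w' * w) (z := z) (w := w) (hcA _ hd z hz)
      (hcA _ hd _ (memA z hz w hw))
    rw [← e] at this
    exact this
  have hst : ∀ s' ∈ A, s' ∉ QB → ∀ t' ∈ B, t' ∉ QA →
      s' * t' * s'⁻¹ * t'⁻¹ = s * t * s⁻¹ * t⁻¹ := by
    intro s' hs' hsQ' t' ht' htQ'
    rw [lemX s' hs' t ht htQ t' ht' htQ', lemY t ht s hs hsQ s' hs' hsQ']
  have hne : s * t * s⁻¹ * t⁻¹ ≠ 1 := by
    intro h
    apply htQ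
    apply hzA t (hBTA ht)
    intro z hz
    by_cases hzQ : z ∈ QB
    · exact (hcB z hzQ t ht).symm
    · have h1 := lemY t ht s hs hsQ z hz hzQ
      rw [h] at h1
      exact (commute_of_comm_eq_one h1).symm
  have hrinv : (s * t * s⁻¹ * t⁻¹)⁻¹ = s * t * s⁻¹ * t⁻¹ :=
    inv_eq_self_of_sq (heA _ (memA s hs t ht))
  refine ⟨hne, memA s hs t ht, memB s hs t ht, hst, ?_, ?_⟩
  · intro z hz a ha
    by_cases haQ : a ∈ QA
    · left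
      exact comm_eq_one_of_commute (hcA a haQ z hz)
    · have hc : a * t ∈ QA := hiA a t ha (hBTA ht) haQ htQ
      have e : a = (a * t) * t := by rw [mul_assoc, heB t ht, mul_one]
      have hk : t * z * t⁻¹ * z⁻¹ = (z * t * z⁻¹ * t⁻¹)⁻¹ := by group
      have hkA : t * z * t⁻¹ * z⁻¹ ∈ A := by rw [hk]; exact A.inv_mem (memA z hz t ht)
      have h1 := comm_mul_left (c := a * t) (y := t) (w := z) (hcA _ hc z hz) (hcA _ hc _ hkA)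
      rw [← e] at h1
      rw [h1, hk]
      by_cases hzQ : z ∈ QB
      · left
        rw [comm_eq_one_of_commute (hcB z hzQ t ht), inv_one]
      · right
        rw [lemY t ht s hs hsQ z hz hzQ, hrinv]
  · intro z hz a ha
    by_cases haQ : a ∈ QB
    · left
      exact comm_eq_one_of_commute (hcB a haQ z hz)
    · have hc : a * s ∈ QB := hiB a s ha (hATB hs) haQ hsQ
      have e : a = (a * s) * s := by rw [mul_assoc, heA s hs, mul_one]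
      have h1 := comm_mul_left (c := a * s) (y := s) (w := z) (hcB _ hc z hz)
        (hcB _ hc _ (memB s hs z hz))
      rw [← e] at h1
      rw [h1]
      by_cases hzQ : z ∈ QA
      · left
        exact comm_eq_one_of_commute (hcA z hzQ s hs).symm
      · right
        exact lemX s hs t ht htQ z hz hzQ

/-! ### consequences of `Geo` -/

section geo

variable {Pc Qc Zc : G → Subgroup G} {Adj : G → G → Prop}

theorem geo_conjZ (hg : Geo Pc Qc Zc Adj) {g a z : G} (ha : a ∈ Pc g) (hz : z ∈ Zc g) :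
    a * z * a⁻¹ ∈ Zc g := (mem_normalizer_iff.mp (hg.Zn g ha) z).mp hz

theorem geo_conjQ (hg : Geo Pc Qc Zc Adj) {g a z : G} (ha : a ∈ Pc g) (hz : z ∈ Qc g) :
    a * z * a⁻¹ ∈ Qc g := (mem_normalizer_iff.mp (hg.Qn g ha) z).mp hz

theorem geo_commQZ (hg : Geo Pc Qc Zc Adj) {g c z : G} (hc : c ∈ Qc g) (hz : z ∈ Zc g) :
    c * z = z * c := (mem_centralizer_iff.mp (hg.QZ g hc) z hz).symm

theorem geo_memQ (hg : Geo Pc Qc Zc Adj) {g t : G} (ht : t ∈ Pc g)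
    (h : ∀ z ∈ Zc g, t * z = z * t) : t ∈ Qc g :=
  hg.CZ g ⟨ht, mem_centralizer_iff.mpr (fun z hz => (h z hz).symm)⟩

/-- first half of CRIT -/
theorem crit_half (hg : Geo Pc Qc Zc Adj) {b : ℕ} {δ : ℕ → G} (hb : 1 ≤ b)
    (hmin : Min Qc Zc Adj b) (hc : Crit Qc Zc Adj b δ) :
    Zc (δ 0) ≤ Pc (δ (b - 1)) ⊓ Pc (δ b) ∧ Crit Qc Zc Adj b (rev b δ) := by
  have h1 : Zc (δ 0) ≤ Qc (δ (b - 1)) := hmin (b - 1) (by omega) δ (isWalk_mono hc.1 (by omega))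
  have hadj : Adj (δ (b - 1)) (δ b) := by
    have := hc.1 (b - 1) (by omega)
    rwa [Nat.sub_add_cancel hb] at this
  have h2 : Zc (δ 0) ≤ Pc (δ (b - 1)) ⊓ Pc (δ b) :=
    le_inf (h1.trans (hg.QP _)) (h1.trans (hg.QT _ _ hadj))
  refine ⟨h2, isWalk_rev hg.symm hc.1, ?_⟩
  rw [rev_zero, rev_self]
  intro h3
  apply hc.2
  intro z hz
  apply geo_memQ hg (h2 hz).2
  intro w hw
  exact (geo_commQZ hg (h3 hw) hz).symm

theorem crit : CritSt G := by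
  intro Pc Qc Zc Adj hg b δ hb hmin hc
  obtain ⟨h1, hrev⟩ := crit_half hg hb hmin hc
  obtain ⟨h2, -⟩ := crit_half hg hb hmin hrev
  rw [rev_zero, rev_self, rev_pred b hb] at h2
  have h2' : Zc (δ b) ≤ Pc (δ 0) ⊓ Pc (δ 1) := fun z hz => ⟨(h2 hz).2, (h2 hz).1⟩
  refine ⟨hrev, h1, h2', ?_⟩
  obtain ⟨s, hs, hsQ⟩ := SetLike.not_le_iff_exists.mp hc.2
  have hrev2 := hrev.2
  rw [rev_zero, rev_self] at hrev2
  obtain ⟨t, ht, htQ⟩ := SetLike.not_le_iff_exists.mp hrev2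
  have hadj0 : Adj (δ 0) (δ 1) := hc.1 0 (by omega)
  have hadjb : Adj (δ (b - 1)) (δ b) := by
    have := hc.1 (b - 1) (by omega)
    rwa [Nat.sub_add_cancel hb] at this
  obtain ⟨hne, hmA, hmB, hst, hc0, hcb⟩ := crit_core (Zc (δ 0)) (Zc (δ b)) (Qc (δ 0)) (Qc (δ b))
    (Pc (δ 0) ⊓ Pc (δ 1)) (Pc (δ (b - 1)) ⊓ Pc (δ b)) h1 h2'
    (fun a ha z hz => geo_conjZ hg ha.1 hz) (fun a ha z hz => geo_conjZ hg ha.2 hz)
    (fun c hc z hz => geo_commQZ hg hc hz) (fun c hc z hz => geo_commQZ hg hc hz)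
    (fun a b ha hb => hg.ind2 _ _ hadj0 a b ha hb)
    (fun a b ha hb => hg.ind2 _ _ (hg.symm _ _ hadjb) a b ⟨ha.2, ha.1⟩ ⟨hb.2, hb.1⟩)
    (hg.Zexp _) (hg.Zexp _) (fun t ht h => geo_memQ hg ht.1 h) s t hs hsQ ht htQ
  have hcent : ∀ a : G, (a * (s * t * s⁻¹ * t⁻¹) * a⁻¹ * (s * t * s⁻¹ * t⁻¹)⁻¹ = 1 ∨
      a * (s * t * s⁻¹ * t⁻¹) * a⁻¹ * (s * t * s⁻¹ * t⁻¹)⁻¹ = s * t * s⁻¹ * t⁻¹) →
      a ∈ centralizer {s * t * s⁻¹ * t⁻¹} := by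
    intro a h
    rw [mem_centralizer_singleton_iff]
    rcases h with h | h
    · exact commute_of_comm_eq_one h
    · exfalso
      apply hne
      have h3 : a * (s * t * s⁻¹ * t⁻¹) * a⁻¹ = 1 := by
        calc a * (s * t * s⁻¹ * t⁻¹) * a⁻¹
            = (a * (s * t * s⁻¹ * t⁻¹) * a⁻¹ * (s * t * s⁻¹ * t⁻¹)⁻¹) * (s * t * s⁻¹ * t⁻¹) := by
              group
          _ = (s * t * s⁻¹ * t⁻¹) * (s * t * s⁻¹ * t⁻¹) := by rw [h]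
          _ = 1 := hg.Zexp _ _ hmA
      calc s * t * s⁻¹ * t⁻¹ = a⁻¹ * (a * (s * t * s⁻¹ * t⁻¹) * a⁻¹) * a := by group
        _ = 1 := by rw [h3]; group
  exact ⟨s * t * s⁻¹ * t⁻¹, hne, hmA, hmB, hst, hc0, hcb,
    fun a ha => hcent a (hc0 _ hmA a ha), fun a ha => hcent a (hcb _ hmB a ha)⟩

/-- `IsR` is symmetric under reversal -/
theorem isR_rev (hg : Geo Pc Qc Zc Adj) {b : ℕ} {δ : ℕ → G} (hb : 1 ≤ b) {r : G}
    (h : IsR Pc Qc Zc b δ r) : IsR Pc Qc Zc b (rev b δ) r := by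
  have hrinv : r⁻¹ = r := inv_eq_self_of_sq (hg.Zexp _ _ h.mem0)
  have e1 : rev b δ 1 = δ (b - 1) := rfl
  refine ⟨h.ne, ?_, ?_, ?_, ?_, ?_, ?_, ?_⟩
  · rw [rev_zero]; exact h.memb
  · rw [rev_self]; exact h.mem0
  · rw [rev_zero, rev_self]
    intro s hs hsQ t ht htQ
    have := h.st t ht htQ s hs hsQ
    calc s * t * s⁻¹ * t⁻¹ = (t * s * t⁻¹ * s⁻¹)⁻¹ := by group
      _ = r := by rw [this, hrinv]
  · rw [rev_zero, e1]
    intro z hz a ha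
    exact h.cb z hz a ⟨ha.2, ha.1⟩
  · rw [rev_self, rev_pred b hb]
    intro z hz a ha
    exact h.c0 z hz a ⟨ha.2, ha.1⟩
  · rw [rev_zero, e1]
    intro a ha
    exact h.zb ⟨ha.2, ha.1⟩
  · rw [rev_self, rev_pred b hb]
    intro a ha
    exact h.z0 ⟨ha.2, ha.1⟩

end geo

end Cfsg.Agent.Lib.Helper71.SA
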