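import Mathlib
import Cfsg.Agent.Lib.Helper59.QuatHom

set_option autoImplicit false

namespace Cfsg.Agent.Lib.Helper71

open QuaternionGroup

/-- The automorphism of order three of the quaternion group, as a function. -/
def sigFun : QuaternionGroup 2 → QuaternionGroup 2
  | .a k => if k = 0 then a 0 else if k = 1 then xa 0 else if k = 2 then a 2 else xa 2
  | .xa k => if k = 0 then xa 3 else if k = 1 then a 3 else if k = 2 then xa 1 else a 1

theorem sigFun_mul : ∀ u v : QuaternionGroup 2, sigFun (u * v) = sigFun u * sigFun v := by decide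

theorem sigFun_cube : ∀ u : QuaternionGroup 2, sigFun (sigFun (sigFun u)) = u := by decide

/-- The automorphism of order three of the quaternion group. -/
def sig : MulAut (QuaternionGroup 2) where
  toFun := sigFun
  invFun := fun u => sigFun (sigFun u)
  left_inv := sigFun_cube
  right_inv := sigFun_cube
  map_mul' := sigFun_mul

theorem sig_apply (u : QuaternionGroup 2) : sig u = sigFun u := rfl

theorem sig_pow_three : sig ^ 3 = 1 := by
  ext u
  simp only [pow_succ, pow_zero, one_mul, MulAut.mul_apply, MulAut.one_apply, sig_apply]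
  exact sigFun_cube u

theorem sig_ne_one : sig ≠ 1 := by
  intro h
  have := congrArg (fun f : MulAut (QuaternionGroup 2) => f (a 1)) h
  simp only [MulAut.one_apply, sig_apply] at this
  revert this
  decide

theorem orderOf_sig : orderOf sig = 3 := by
  have : Fact (Nat.Prime 3) := ⟨Nat.prime_three⟩
  exact orderOf_eq_prime sig_pow_three sig_ne_one

theorem closure_q8 : Subgroup.closure ({a 1, xa 0} : Set (QuaternionGroup 2)) = ⊤ := by
  have h : ∀ u : QuaternionGroup 2, ∃ m n : Fin 4, u = (xa 0) ^ (m : ℕ) * (a 1) ^ (n : ℕ) := by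
    decide
  rw [eq_top_iff]
  intro u _
  obtain ⟨m, n, rfl⟩ := h u
  exact Subgroup.mul_mem _ (Subgroup.pow_mem _ (Subgroup.subset_closure (by simp)) _)
    (Subgroup.pow_mem _ (Subgroup.subset_closure (by simp)) _)

/-- The universal cover `Q₈ ⋊ ℤ` used to compare groups of type `Q₈ ⋊ C₃`. -/
abbrev MT : Type :=
  QuaternionGroup 2 ⋊[zpowersHom (MulAut (QuaternionGroup 2)) sig] Multiplicative ℤ

theorem exists_hom_of_rel {Γ : Type*} [Group Γ] (i j w : Γ) (hi : orderOf i = 4)
    (hj : j * j = i ^ 2) (hji : j * i * j⁻¹ = i⁻¹) (hjn : j ∉ Subgroup.zpowers i)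
    (hwi : w * i * w⁻¹ = j) (hwj : w * j * w⁻¹ = i * j) :
    ∃ (F : QuaternionGroup 2 →* Γ) (Θ : MT →* Γ), Function.Injective F ∧
      (∀ x : MT, Θ x = F x.left * w ^ (Multiplicative.toAdd x.right)) ∧
      (∀ (z : ℤ) (u : QuaternionGroup 2), F ((sig ^ z) u) = w ^ z * F u * (w ^ z)⁻¹) := by
  obtain ⟨F, hF, hFa, hFx⟩ := Cfsg.Agent.Lib.Helper59.exists_quaternion_hom 2 i j
    (by rw [hi]) hj hji hjn
  have hF1 : F (a 1) = i := by
    have := hFa 1
    simpa using this
  have hF0 : F (xa 0) = j := by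
    have := hFx 0
    simpa using this
  have step1 : ∀ u, F (sig u) = w * F u * w⁻¹ := by
    have heq : F.comp sig.toMonoidHom = (MulAut.conj w).toMonoidHom.comp F := by
      apply MonoidHom.eq_of_eqOn_dense closure_q8
      intro u hu
      rcases hu with rfl | rfl
      · change F (sigFun (a 1)) = w * F (a 1) * w⁻¹
        rw [hF1, hwi, ← hF0]
        rfl
      · change F (sigFun (xa 0)) = w * F (xa 0) * w⁻¹
        rw [hF0, hwj, ← hF0, ← hF1, ← map_mul]
        rfl
    intro u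
    exact DFunLike.congr_fun heq u
  have step1' : ∀ u, F (sig⁻¹ u) = w⁻¹ * F u * w := by
    intro u
    have := step1 (sig⁻¹ u)
    rw [← MulAut.mul_apply, mul_inv_cancel, MulAut.one_apply] at this
    rw [this]; group
  have step2 : ∀ (z : ℤ) (u : QuaternionGroup 2), F ((sig ^ z) u) = w ^ z * F u * (w ^ z)⁻¹ := by
    intro z
    induction z using Int.induction_on with
    | zero => intro u; simp
    | succ n ih =>
      intro u
      rw [zpow_add_one, MulAut.mul_apply, ih, step1, zpow_add_one]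
      group
    | pred n ih =>
      intro u
      rw [zpow_sub_one, MulAut.mul_apply, ih, step1', zpow_sub_one]
      group
  refine ⟨F, SemidirectProduct.lift F (zpowersHom Γ w) ?_, hF, ?_, step2⟩
  · intro z
    ext u
    simp only [MonoidHom.comp_apply, MulEquiv.coe_toMonoidHom, zpowersHom_apply, MulAut.conj_apply]
    exact step2 _ u
  · intro x
    rfl

/-- abstract nonsense: a common cover gives a section -/
theorem section_iso {M G S : Type*} [Group M] [Group G] [Group S] (Θ1 : M →* G) (Θ2 : M →* S)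
    (hs : Function.Surjective Θ2) (hk : Θ1.ker ≤ Θ2.ker) :
    ∃ (H K : Subgroup G) (_ : (K.subgroupOf H).Normal), Nonempty ((H ⧸ K.subgroupOf H) ≃* S) := by
  let ρ : Θ1.range →* S := Θ1.rangeRestrict.liftOfSurjective Θ1.rangeRestrict_surjective
    ⟨Θ2, by rw [MonoidHom.ker_rangeRestrict]; exact hk⟩
  have hρ : ∀ m, ρ (Θ1.rangeRestrict m) = Θ2 m := fun m =>
    MonoidHom.liftOfRightInverse_comp_apply _ _ _ _ m
  have hρs : Function.Surjective ρ := by
    intro s
    obtain ⟨m, rfl⟩ := hs s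
    exact ⟨_, hρ m⟩
  have hker : ((Θ2.ker).map Θ1).subgroupOf Θ1.range = ρ.ker := by
    ext ⟨y, m, rfl⟩
    rw [Subgroup.mem_subgroupOf, MonoidHom.mem_ker]
    have e1 : (⟨Θ1 m, m, rfl⟩ : Θ1.range) = Θ1.rangeRestrict m := rfl
    rw [e1, hρ]
    constructor
    · rintro ⟨m', hm', hmm⟩
      have h1 : m'⁻¹ * m ∈ Θ1.ker := by
        rw [MonoidHom.mem_ker, map_mul, map_inv]
        change (Θ1 m')⁻¹ * Θ1 m = 1
        rw [hmm]
        change (Θ1 m)⁻¹ * Θ1 m = 1
        group
      have h2 := hk h1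
      rw [MonoidHom.mem_ker, map_mul, map_inv, MonoidHom.mem_ker.1 hm'] at h2
      simpa using h2
    · intro h
      exact ⟨m, h, rfl⟩
  have aux : ∀ N : Subgroup Θ1.range, N = ρ.ker → ∃ _ : N.Normal, Nonempty ((Θ1.range ⧸ N) ≃* S) := by
    rintro N rfl
    exact ⟨inferInstance, ⟨QuotientGroup.quotientKerEquivOfSurjective ρ hρs⟩⟩
  obtain ⟨h1, h2⟩ := aux _ hker
  exact ⟨Θ1.range, (Θ2.ker).map Θ1, h1, h2⟩

open Matrix in
/-- generators of `SL(2,3)` -/
def I3 : SpecialLinearGroup (Fin 2) (ZMod 3) := ⟨!![0, -1; 1, 0], by decide⟩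
open Matrix in
def J3 : SpecialLinearGroup (Fin 2) (ZMod 3) := ⟨!![1, 1; 1, -1], by decide⟩
open Matrix in
def W3 : SpecialLinearGroup (Fin 2) (ZMod 3) := ⟨!![1, 1; 0, 1], by decide⟩

set_option maxRecDepth 100000 in
theorem sl23_rel : ¬ I3 ^ 2 ^ 1 = 1 ∧ I3 ^ 2 ^ (1 + 1) = 1 ∧ J3 * J3 = I3 ^ 2 ∧ J3 * I3 * J3⁻¹ = I3⁻¹ ∧
    I3 * J3 ≠ J3 * I3 ∧ W3 * I3 * W3⁻¹ = J3 ∧ W3 * J3 * W3⁻¹ = I3 * J3 ∧ W3 ^ 3 = 1 ∧ W3 ≠ 1 := by
  decide +kernel

set_option maxRecDepth 100000 in
theorem card_sl23 : Fintype.card (Matrix.SpecialLinearGroup (Fin 2) (ZMod 3)) = 24 := by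
  decide +kernel

/-- Recognition of a section `SL(2,3)`: a quaternion group of order eight acted on nontrivially
by an element of odd order. -/
theorem exists_section_SL23 {G : Type*} [Group G] (i j g : G) (hi : orderOf i = 4)
    (hj : j * j = i ^ 2) (hji : j * i * j⁻¹ = i⁻¹) (hjn : j ∉ Subgroup.zpowers i)
    (hgi : g * i * g⁻¹ = j) (hgj : g * j * g⁻¹ = i * j) (m : ℕ) (hm : Odd m) (hgm : g ^ m = 1) :
    ∃ (H K : Subgroup G) (_ : (K.subgroupOf H).Normal),
      Nonempty ((H ⧸ K.subgroupOf H) ≃* Matrix.SpecialLinearGroup (Fin 2) (ZMod 3)) := by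
  obtain ⟨r1, r2, r3, r4, r5, r6, r7, r8, r9⟩ := sl23_rel
  have : Fact (Nat.Prime 2) := ⟨Nat.prime_two⟩
  have : Fact (Nat.Prime 3) := ⟨Nat.prime_three⟩
  have hI : orderOf I3 = 4 := by
    have := orderOf_eq_prime_pow r1 r2
    simpa using this
  have hJn : J3 ∉ Subgroup.zpowers I3 := by
    rintro ⟨k, hk⟩
    apply r5
    have hk' : I3 ^ k = J3 := hk
    rw [← hk']
    exact ((Commute.refl I3).zpow_right k).eq
  have hW : orderOf W3 = 3 := orderOf_eq_prime r8 r9
  obtain ⟨F1, Θ1, hF1, hΘ1, hc1⟩ := exists_hom_of_rel i j g hi hj hji hjn hgi hgj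
  obtain ⟨F2, Θ2, hF2, hΘ2, hc2⟩ := exists_hom_of_rel I3 J3 W3 hI r3 r4 hJn r6 r7
  apply section_iso Θ1 Θ2
  · -- surjectivity
    rw [← MonoidHom.range_eq_top]
    have h8 : 8 ∣ Nat.card Θ2.range := by
      have hle : F2.range ≤ Θ2.range := by
        rintro _ ⟨u, rfl⟩
        refine ⟨⟨u, 1⟩, ?_⟩
        rw [hΘ2]; simp
      have hc : Nat.card F2.range = 8 := by
        rw [← Nat.card_congr (MonoidHom.ofInjective hF2).toEquiv, Nat.card_eq_fintype_card,
          QuaternionGroup.card]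
      rw [← hc]; exact Subgroup.card_dvd_of_le hle
    have h3 : 3 ∣ Nat.card Θ2.range := by
      have hmem : W3 ∈ Θ2.range := by
        refine ⟨⟨1, Multiplicative.ofAdd 1⟩, ?_⟩
        rw [hΘ2]; simp
      have := Subgroup.orderOf_dvd_natCard _ hmem
      rwa [hW] at this
    have h24 : 24 ∣ Nat.card Θ2.range :=
      (Nat.Coprime.mul_dvd_of_dvd_of_dvd (by norm_num : Nat.Coprime 8 3) h8 h3)
    apply Subgroup.eq_top_of_le_card
    rw [Nat.card_eq_fintype_card (α := Matrix.SpecialLinearGroup (Fin 2) (ZMod 3)), card_sl23]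
    exact Nat.le_of_dvd Nat.card_pos h24
  · -- kernels
    intro x hx
    rw [MonoidHom.mem_ker, hΘ1] at hx
    rw [MonoidHom.mem_ker, hΘ2]
    set z : ℤ := Multiplicative.toAdd x.right with hz
    have hgz : g ^ z = F1 (x.left)⁻¹ := by
      rw [map_inv]; exact (inv_eq_of_mul_eq_one_right hx).symm
    have h8 : (g ^ z) ^ 8 = 1 := by
      rw [hgz, ← map_pow]
      have : (x.left)⁻¹ ^ 8 = 1 := by
        have h := pow_card_eq_one (x := (x.left)⁻¹)
        rwa [QuaternionGroup.card] at h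
      rw [this, map_one]
    have hmz : (g ^ z) ^ m = 1 := by
      rw [← zpow_natCast, ← zpow_mul, mul_comm, zpow_mul, zpow_natCast, hgm, one_zpow]
    have hgz1 : g ^ z = 1 := by
      have h1 : orderOf (g ^ z) ∣ 8 := orderOf_dvd_of_pow_eq_one h8
      have h2 : orderOf (g ^ z) ∣ m := orderOf_dvd_of_pow_eq_one hmz
      have hcop : Nat.Coprime 8 m := by
        have : Nat.Coprime 2 m := (Nat.coprime_two_left).2 hm
        exact Nat.Coprime.pow_left 3 this
      exact orderOf_eq_one_iff.1 (Nat.eq_one_of_dvd_coprimes hcop h1 h2)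
    have hleft : x.left = 1 := by
      rw [hgz1, mul_one] at hx
      exact hF1 (by rw [hx, map_one])
    have hsig : sig ^ z = 1 := by
      ext u
      apply hF1
      rw [hc1, hgz1]; simp
    have h3z : (3 : ℤ) ∣ z := by
      have := (orderOf_dvd_iff_zpow_eq_one (x := sig) (i := z)).2 hsig
      rwa [orderOf_sig] at this
    obtain ⟨t, ht⟩ := h3z
    rw [hleft, map_one, one_mul, ht, zpow_mul]
    have : W3 ^ (3 : ℤ) = 1 := by
      have := r8
      exact_mod_cast this
    rw [this, one_zpow]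

end Cfsg.Agent.Lib.Helper71
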