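import Mathlib
import Cfsg.Agent.Lib.Helper71.SL23

set_option autoImplicit false

namespace Cfsg.Agent.Lib.Helper71

open QuaternionGroup

/-- comparison of the kernels of two quotients of the cover `MT` -/
theorem ker_le_ker {Γ Γ' : Type*} [Group Γ] [Group Γ'] (g : Γ) (w' : Γ')
    (F1 : QuaternionGroup 2 →* Γ) (Θ1 : MT →* Γ) (hF1 : Function.Injective F1)
    (hΘ1 : ∀ x : MT, Θ1 x = F1 x.left * g ^ (Multiplicative.toAdd x.right))
    (hc1 : ∀ (z : ℤ) (u : QuaternionGroup 2), F1 ((sig ^ z) u) = g ^ z * F1 u * (g ^ z)⁻¹)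
    (m : ℕ) (hm : Odd m) (hgm : g ^ m = 1)
    (F2 : QuaternionGroup 2 →* Γ') (Θ2 : MT →* Γ')
    (hΘ2 : ∀ x : MT, Θ2 x = F2 x.left * w' ^ (Multiplicative.toAdd x.right))
    (hw' : w' ^ 3 = 1) : Θ1.ker ≤ Θ2.ker := by
  intro x hx
  rw [MonoidHom.mem_ker, hΘ1] at hx
  rw [MonoidHom.mem_ker, hΘ2]
  set z : ℤ := Multiplicative.toAdd x.right with hz
  have hgz : g ^ z = F1 (x.left)⁻¹ := by
    rw [map_inv]; exact (inv_eq_of_mul_eq_one_right hx).symm
  have h8 : (g ^ z) ^ 8 = 1 := by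
    rw [hgz, ← map_pow]
    have : (x.left)⁻¹ ^ 8 = 1 := by
      have h := pow_card_eq_one (x := (x.left)⁻¹)
      rwa [QuaternionGroup.card] at h
    rw [this, map_one]
  have hmz : (g ^ z) ^ m = 1 := by
    rw [← zpow_natCast, ← zpow_mul, mul_comm, zpow_mul, zpow_natCast, hgm, one_zpow]
  have hgz1 : g ^ z = 1 := by
    have h1 : orderOf (g ^ z) ∣ 8 := orderOf_dvd_of_pow_eq_one h8
    have h2 : orderOf (g ^ z) ∣ m := orderOf_dvd_of_pow_eq_one hmz
    have hcop : Nat.Coprime 8 m := by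
      have : Nat.Coprime 2 m := (Nat.coprime_two_left).2 hm
      exact Nat.Coprime.pow_left 3 this
    exact orderOf_eq_one_iff.1 (Nat.eq_one_of_dvd_coprimes hcop h1 h2)
  have hleft : x.left = 1 := by
    rw [hgz1, mul_one] at hx
    exact hF1 (by rw [hx, map_one])
  have hsig : sig ^ z = 1 := by
    ext u
    apply hF1
    rw [hc1, hgz1]; simp
  have h3z : (3 : ℤ) ∣ z := by
    have := (orderOf_dvd_iff_zpow_eq_one (x := sig) (i := z)).2 hsig
    rwa [orderOf_sig] at this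
  obtain ⟨t, ht⟩ := h3z
  rw [hleft, map_one, one_mul, ht, zpow_mul]
  have : w' ^ (3 : ℤ) = 1 := by
    exact_mod_cast hw'
  rw [this, one_zpow]

/-- Recognition of a subgroup `SL(2,3)`: a quaternion group of order eight acted on nontrivially
by an element of order three. -/
theorem exists_subgroup_SL23 {G : Type*} [Group G] (i j g : G) (hi : orderOf i = 4)
    (hj : j * j = i ^ 2) (hji : j * i * j⁻¹ = i⁻¹) (hjn : j ∉ Subgroup.zpowers i)
    (hgi : g * i * g⁻¹ = j) (hgj : g * j * g⁻¹ = i * j) (hg3 : g ^ 3 = 1) :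
    ∃ U : Subgroup G, Nonempty (U ≃* Matrix.SpecialLinearGroup (Fin 2) (ZMod 3)) := by
  obtain ⟨r1, r2, r3, r4, r5, r6, r7, r8, r9⟩ := sl23_rel
  have : Fact (Nat.Prime 2) := ⟨Nat.prime_two⟩
  have : Fact (Nat.Prime 3) := ⟨Nat.prime_three⟩
  have hI : orderOf I3 = 4 := by
    have := orderOf_eq_prime_pow r1 r2
    simpa using this
  have hJn : J3 ∉ Subgroup.zpowers I3 := by
    rintro ⟨k, hk⟩
    apply r5
    have hk' : I3 ^ k = J3 := hk
    rw [← hk']
    exact ((Commute.refl I3).zpow_right k).eq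
  have hW : orderOf W3 = 3 := orderOf_eq_prime r8 r9
  obtain ⟨F1, Θ1, hF1, hΘ1, hc1⟩ := exists_hom_of_rel i j g hi hj hji hjn hgi hgj
  obtain ⟨F2, Θ2, hF2, hΘ2, hc2⟩ := exists_hom_of_rel I3 J3 W3 hI r3 r4 hJn r6 r7
  have hsurj : Function.Surjective Θ2 := by
    rw [← MonoidHom.range_eq_top]
    have h8 : 8 ∣ Nat.card Θ2.range := by
      have hle : F2.range ≤ Θ2.range := by
        rintro _ ⟨u, rfl⟩
        refine ⟨⟨u, 1⟩, ?_⟩
        rw [hΘ2]; simp
      have hc : Nat.card F2.range = 8 := by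
        rw [← Nat.card_congr (MonoidHom.ofInjective hF2).toEquiv, Nat.card_eq_fintype_card,
          QuaternionGroup.card]
      rw [← hc]; exact Subgroup.card_dvd_of_le hle
    have h3 : 3 ∣ Nat.card Θ2.range := by
      have hmem : W3 ∈ Θ2.range := by
        refine ⟨⟨1, Multiplicative.ofAdd 1⟩, ?_⟩
        rw [hΘ2]; simp
      have := Subgroup.orderOf_dvd_natCard _ hmem
      rwa [hW] at this
    have h24 : 24 ∣ Nat.card Θ2.range :=
      (Nat.Coprime.mul_dvd_of_dvd_of_dvd (by norm_num : Nat.Coprime 8 3) h8 h3)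
    apply Subgroup.eq_top_of_le_card
    rw [Nat.card_eq_fintype_card (α := Matrix.SpecialLinearGroup (Fin 2) (ZMod 3)), card_sl23]
    exact Nat.le_of_dvd Nat.card_pos h24
  have hker : Θ1.ker = Θ2.ker :=
    le_antisymm
      (ker_le_ker g W3 F1 Θ1 hF1 hΘ1 hc1 3 (by decide) hg3 F2 Θ2 hΘ2 r8)
      (ker_le_ker W3 g F2 Θ2 hF2 hΘ2 hc2 3 (by decide) r8 F1 Θ1 hΘ1 hg3)
  exact ⟨Θ1.range, ⟨(QuotientGroup.quotientKerEquivRange Θ1).symm.trans
    ((QuotientGroup.quotientMulEquivOfEq hker).trans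
      (QuotientGroup.quotientKerEquivOfSurjective Θ2 hsurj))⟩⟩

end Cfsg.Agent.Lib.Helper71
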