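import Mathlib
import Cfsg.Agent.Lib.Helper71.Basic
import Cfsg.Agent.Lib.Helper71.Irr
import Cfsg.Agent.S4032
import Cfsg.Agent.S0199

set_option autoImplicit false

namespace Cfsg.Agent.Lib.Helper71

/-- No `2`-element inverts a nontrivial element of odd order. -/
def NoInv (G : Type*) [Group G] : Prop :=
  ∀ t y : G, (∃ a : ℕ, orderOf t = 2 ^ a) → Odd (orderOf y) → t * y * t⁻¹ = y⁻¹ → y = 1

theorem invol_mem_normal {G : Type*} [Group G] [Finite G] (h : NoInv G) (t : G)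
    (ht : orderOf t = 2) : ∃ N : Subgroup G, N.Normal ∧ IsPGroup 2 N ∧ t ∈ N := by
  have : Fact (Nat.Prime 2) := ⟨Nat.prime_two⟩
  have htt : t * t = 1 := by rw [← pow_two, ← ht, pow_orderOf_eq_one]
  have htinv : t⁻¹ = t := inv_eq_of_mul_eq_one_left htt
  have hX : IsPGroup 2 (Subgroup.zpowers t) :=
    IsPGroup.of_card (n := 1) (by rw [Nat.card_zpowers, ht, pow_one])
  obtain ⟨N, hN, hN2, hle⟩ := Cfsg.Agent.S0199.result (p := 2) (Subgroup.zpowers t) hX (by
    intro g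
    set s := g * t * g⁻¹ with hs
    have hss : s * s = 1 := by rw [hs]; calc g * t * g⁻¹ * (g * t * g⁻¹) = g * (t * t) * g⁻¹ := by group
      _ = 1 := by rw [htt]; group
    have hsinv : s⁻¹ = s := inv_eq_of_mul_eq_one_left hss
    set y := t * s with hy
    have hinv : t * y * t⁻¹ = y⁻¹ := by
      rw [hy, mul_inv_rev, hsinv, htinv, ← mul_assoc, htt, one_mul]
    obtain ⟨a, m, hm, hym⟩ := Nat.exists_eq_two_pow_mul_odd (orderOf_pos y).ne'
    have ho : orderOf (y ^ 2 ^ a) = m := by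
      rw [orderOf_pow_of_dvd (by positivity) (by rw [hym]; exact Dvd.intro _ rfl), hym,
        Nat.mul_div_cancel_left _ (by positivity)]
    have h1 : y ^ 2 ^ a = 1 := by
      apply h t (y ^ 2 ^ a) ⟨1, by rw [ht, pow_one]⟩ (by rw [ho]; exact hm)
      rw [← conj_pow, hinv, inv_pow]
    have hm1 : m = 1 := by rw [← ho, h1, orderOf_one]
    have hyo : orderOf y = 2 ^ a := by rw [hym, hm1, mul_one]
    have hY : IsPGroup 2 (Subgroup.zpowers y) :=
      IsPGroup.of_card (n := a) (by rw [Nat.card_zpowers, hyo])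
    have h3 : IsPGroup 2 (Subgroup.zpowers t ⊔ Subgroup.zpowers y : Subgroup G) := by
      apply hX.to_sup_of_normal_right' hY
      rw [Subgroup.zpowers_le, mem_normalizer_zpowers_iff, hinv]
      exact Subgroup.inv_mem _ (Subgroup.mem_zpowers y)
    apply h3.to_le
    apply sup_le le_sup_left
    rw [MonoidHom.map_zpowers, Subgroup.zpowers_le]
    have : (MulAut.conj g).toMonoidHom t = t⁻¹ * y := by
      rw [hy, inv_mul_cancel_left]; rfl
    rw [this]
    exact Subgroup.mul_mem _ (Subgroup.inv_mem _ ((le_sup_left : Subgroup.zpowers t ≤ _)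
      (Subgroup.mem_zpowers t))) ((le_sup_right : Subgroup.zpowers y ≤ _) (Subgroup.mem_zpowers y)))
  exact ⟨N, hN, hN2, hle (Subgroup.mem_zpowers t)⟩

/-- a lift of a `2`-element modulo a normal `2`-subgroup is a `2`-element -/
theorem two_elt_of_mk {G : Type*} [Group G] [Finite G] (T : Subgroup G) [T.Normal]
    (hT : IsPGroup 2 T) (t : G) {a : ℕ} (ht : orderOf (t : G ⧸ T) = 2 ^ a) :
    ∃ b : ℕ, orderOf t = 2 ^ b := by
  have h1 : t ^ 2 ^ a ∈ T := by
    rw [← QuotientGroup.eq_one_iff, QuotientGroup.mk_pow, ← ht, pow_orderOf_eq_one]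
  obtain ⟨e, he⟩ := hT ⟨_, h1⟩
  have he' : (t ^ 2 ^ a) ^ 2 ^ e = 1 := congrArg Subtype.val he
  rw [← pow_mul, ← pow_add] at he'
  obtain ⟨b, -, hb⟩ := (Nat.dvd_prime_pow Nat.prime_two).mp (orderOf_dvd_of_pow_eq_one he')
  exact ⟨b, hb⟩

theorem NoInv.quot {G : Type*} [Group G] [Finite G] (h : NoInv G) (T : Subgroup G) [T.Normal]
    (hT : IsPGroup 2 T) : NoInv (G ⧸ T) := by
  intro t' y' ⟨a, ha⟩ hodd hinv
  by_contra hy1
  have hne : orderOf y' ≠ 1 := by rwa [Ne, orderOf_eq_one_iff]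
  set r := (orderOf y').minFac with hr
  have hrp : r.Prime := Nat.minFac_prime hne
  have : Fact r.Prime := ⟨hrp⟩
  have hrd : r ∣ orderOf y' := Nat.minFac_dvd _
  have hr2 : r ≠ 2 := by
    rintro h2
    rw [h2] at hrd
    exact (Nat.not_even_iff_odd.mpr hodd) (even_iff_two_dvd.mpr hrd)
  obtain ⟨t, rfl⟩ := QuotientGroup.mk_surjective t'
  obtain ⟨y0, rfl⟩ := QuotientGroup.mk_surjective y'
  obtain ⟨b, m, hm, hy0⟩ := Nat.exists_eq_pow_mul_and_not_dvd (orderOf_pos y0).ne' r hrp.ne_one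
  have hm0 : m ≠ 0 := by rintro rfl; simp at hm
  set y := y0 ^ m with hydef
  have hyord : orderOf y = r ^ b := by
    rw [hydef, orderOf_pow_of_dvd hm0 (by rw [hy0]; exact Dvd.intro_left _ rfl), hy0,
      Nat.mul_div_cancel _ (Nat.pos_of_ne_zero hm0)]
  have hyne : (y : G ⧸ T) ≠ 1 := by
    intro h1
    rw [hydef, QuotientGroup.mk_pow] at h1
    exact hm (hrd.trans (orderOf_dvd_of_pow_eq_one h1))
  have hinvy : (t : G ⧸ T) * (y : G ⧸ T) * (t : G ⧸ T)⁻¹ = (y : G ⧸ T)⁻¹ := by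
    rw [hydef, QuotientGroup.mk_pow, ← conj_pow, hinv, inv_pow]
  have hpgy : IsPGroup r (Subgroup.zpowers y) :=
    IsPGroup.of_card (n := b) (by rw [Nat.card_zpowers, hyord])
  obtain ⟨R, hR⟩ := hpgy.exists_le_sylow
  have hyR : y ∈ R := hR (Subgroup.mem_zpowers y)
  set v := t * y * t⁻¹ with hvdef
  have hvT : y * v ∈ T := by
    rw [← QuotientGroup.eq_one_iff, hvdef]
    have : ((y * (t * y * t⁻¹) : G) : G ⧸ T)
      = (y : G ⧸ T) * ((t : G ⧸ T) * (y : G ⧸ T) * (t : G ⧸ T)⁻¹) := rfl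
    rw [this, hinvy, mul_inv_cancel]
  have hv : v ∈ (R : Subgroup G) ⊔ T := by
    have : v = y⁻¹ * (y * v) := by group
    rw [this]
    exact Subgroup.mul_mem_sup ((R : Subgroup G).inv_mem hyR) hvT
  have hs : SemiconjBy t y v := by unfold SemiconjBy; rw [hvdef]; group
  obtain ⟨n, hn, hnv⟩ := Cfsg.Agent.S4032.conj_into R T v hv (a := b) (by rw [← hs.orderOf_eq, hyord])
  have hmemT : y * (n * v * n⁻¹) ∈ T := by
    have h1 : y * (n * v * n⁻¹) = (y * v) * (v⁻¹ * n * v * n⁻¹) := by group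
    rw [h1]
    apply T.mul_mem hvT
    have h2 : v⁻¹ * n * v * n⁻¹ = (v⁻¹ * n * v⁻¹⁻¹) * n⁻¹ := by group
    rw [h2]
    exact T.mul_mem (‹T.Normal›.conj_mem n hn v⁻¹) (T.inv_mem hn)
  have hmemR : y * (n * v * n⁻¹) ∈ R := (R : Subgroup G).mul_mem hyR hnv
  have hone : y * (n * v * n⁻¹) = 1 := by
    set w := y * (n * v * n⁻¹) with hw
    obtain ⟨e, he⟩ := R.isPGroup' ⟨w, hmemR⟩
    have he' : w ^ r ^ e = 1 := congrArg Subtype.val he
    obtain ⟨f, hf⟩ := hT ⟨w, hmemT⟩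
    have hf' : w ^ 2 ^ f = 1 := congrArg Subtype.val hf
    have hcop : Nat.Coprime (r ^ e) (2 ^ f) :=
      Nat.Coprime.pow _ _ ((Nat.coprime_primes hrp Nat.prime_two).mpr hr2)
    have := pow_gcd_eq_one.mpr ⟨he', hf'⟩
    rwa [hcop.gcd_eq_one, pow_one] at this
  have hconj : (n * t) * y * (n * t)⁻¹ = y⁻¹ := by
    have h1 : (n * t) * y * (n * t)⁻¹ = n * v * n⁻¹ := by rw [hvdef]; group
    rw [h1]
    exact (eq_inv_of_mul_eq_one_right hone)
  have hnt : ∃ c : ℕ, orderOf (n * t) = 2 ^ c := by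
    apply two_elt_of_mk T hT (n * t) (a := a)
    rw [QuotientGroup.mk_mul, (QuotientGroup.eq_one_iff n).mpr hn, one_mul, ha]
  have hyodd : Odd (orderOf y) := by
    rw [hyord]
    exact Odd.pow (hrp.odd_of_ne_two hr2)
  have := h (n * t) y hnt hyodd hconj
  rw [this] at hyne
  exact hyne rfl

theorem sylow_two_normal {G : Type*} [Group G] [Finite G] (h : NoInv G) (P : Sylow 2 G) :
    (P : Subgroup G).Normal := by
  have : Fact (Nat.Prime 2) := ⟨Nat.prime_two⟩
  set T := (P : Subgroup G).normalCore with hTdef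
  have hT : IsPGroup 2 T := P.isPGroup'.to_le (Subgroup.normalCore_le _)
  have hq : NoInv (G ⧸ T) := h.quot T hT
  have hodd : ¬ 2 ∣ Nat.card (G ⧸ T) := by
    intro h2
    obtain ⟨t, ht⟩ := exists_prime_orderOf_dvd_card' 2 h2
    obtain ⟨N, hN, hN2, htN⟩ := invol_mem_normal hq t ht
    have hM : IsPGroup 2 (N.comap (QuotientGroup.mk' T)) := by
      apply hN2.comap_of_ker_isPGroup
      rwa [QuotientGroup.ker_mk']
    have hMn : (N.comap (QuotientGroup.mk' T)).Normal := hN.comap _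
    have hle : N.comap (QuotientGroup.mk' T) ≤ T :=
      Subgroup.normal_le_normalCore.mpr (hM.le_sylow_of_normal P)
    obtain ⟨t0, rfl⟩ := QuotientGroup.mk_surjective t
    have : t0 ∈ T := hle htN
    rw [(QuotientGroup.eq_one_iff t0).mpr this, orderOf_one] at ht
    norm_num at ht
  have hPT : (P : Subgroup G) = T := by
    apply le_antisymm _ (Subgroup.normalCore_le _)
    intro x hx
    rw [← QuotientGroup.eq_one_iff]
    obtain ⟨e, he⟩ := P.isPGroup' ⟨x, hx⟩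
    have he' : x ^ 2 ^ e = 1 := congrArg Subtype.val he
    have h1 : (x : G ⧸ T) ^ 2 ^ e = 1 := by rw [← QuotientGroup.mk_pow, he']; rfl
    have h2 : (x : G ⧸ T) ^ Nat.card (G ⧸ T) = 1 := pow_card_eq_one'
    have hcop : Nat.Coprime (2 ^ e) (Nat.card (G ⧸ T)) :=
      Nat.Coprime.pow_left _ ((Nat.Prime.coprime_iff_not_dvd Nat.prime_two).mpr hodd)
    have := pow_gcd_eq_one.mpr ⟨h1, h2⟩
    rwa [hcop.gcd_eq_one, pow_one] at this
  rw [hPT]
  infer_instance

end Cfsg.Agent.Lib.Helper71
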